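import Cfsg.Agent.Lib.Coprime.RankTwoAbelian.Pair
import Cfsg.Agent.Lib.Fusion.GlaubermanThompson
import Mathlib

/-!
# No non-permuting pair exists in a minimal counterexample
-/

set_option autoImplicit false
set_option linter.unusedSectionVars false
set_option linter.style.haveILetI false

namespace CfsgLib.Coprime.RankTwoAbelian

open Subgroup
open scoped Pointwise commutatorElement

universe u

variable {X : Type u} [Group X] [Finite X] {G A : Subgroup X} {q r s : ℕ} [Fact r.Prime]
  [Fact s.Prime]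

namespace Minimal

/-- A minimal counterexample has no normal complement to a nontrivial Sylow subgroup. -/
theorem no_complement (M : Minimal G A q) {R : Subgroup X} (hR : IsInvSylow G A r R) (hne : R ≠ ⊥)
    (P : Sylow r G) (N : Subgroup G) (hN : N.Normal) (hNP : N.IsComplement' (P : Subgroup G)) :
    False := by
  haveI := hN
  have hidx : N.index = Nat.card (P : Subgroup G) := hNP.symm.index_eq_card
  have hcop : (Nat.card N).Coprime r := by
    rw [Nat.coprime_comm, (Fact.out : r.Prime).coprime_iff_not_dvd, ← hNP.index_eq_card]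
    exact P.not_dvd_index
  have hinv : A ≤ normalizer ((N.map G.subtype : Subgroup X) : Set X) := by
    refine le_normalizer_iff.2 fun a ha x hx => ?_
    obtain ⟨y, hy, rfl⟩ := hx
    have hmem : a * (y : X) * a⁻¹ ∈ G := le_normalizer_iff.1 M.norm a ha y y.2
    refine ⟨⟨_, hmem⟩, (QuotientGroup.eq_one_iff _).1 (orderOf_eq_one_iff.1 ?_), rfl⟩
    have h1 : orderOf (⟨_, hmem⟩ : G) = orderOf y := by
      rw [← Subgroup.orderOf_coe ⟨_, hmem⟩, ← Subgroup.orderOf_coe y]
      exact (MulAut.conj a).orderOf_eq (y : X)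
    refine Nat.eq_one_of_dvd_coprimes (k := orderOf ((⟨_, hmem⟩ : G) : G ⧸ N))
      (Nat.Coprime.pow_right ((Nat.card G).factorization r) hcop) ?_ ?_
    · exact (orderOf_map_dvd (QuotientGroup.mk' N) _).trans
        (h1 ▸ Subgroup.orderOf_dvd_natCard N hy)
    · rw [← P.card_eq_multiplicity, ← hidx, Subgroup.index_eq_card]
      exact orderOf_dvd_natCard _
  rcases M.simple _ (map_subtype_le N) ((le_normalizer_iff.2 fun g hg x hx => by
      obtain ⟨y, hy, rfl⟩ := hx
      exact ⟨⟨g, hg⟩ * y * ⟨g, hg⟩⁻¹, hN.conj_mem y hy _, rfl⟩)) hinv with e | e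
  · rw [map_eq_bot_iff_of_injective _ G.subtype_injective] at e
    have : Nat.card G = Nat.card (P : Subgroup G) := by
      rw [← hidx, e, index_bot]
    have hGp : IsPGroup r G := IsPGroup.of_card (n := (Nat.card G).factorization r)
      (this.trans P.card_eq_multiplicity)
    exact M.nsolv (solvable_of_pgroup hGp)
  · apply hne
    have hNtop : N = ⊤ := map_injective G.subtype_injective
      (by rw [e, ← MonoidHom.range_eq_map, range_subtype])
    rw [← card_eq_one, hR.card, ← P.card_eq_multiplicity, ← hidx, hNtop, index_top]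

/-- Burnside's transfer theorem in a minimal counterexample. -/
theorem no_burnside (M : Minimal G A q) {R : Subgroup X} (hR : IsInvSylow G A r R) (hne : R ≠ ⊥)
    (h : G ⊓ normalizer (R : Set X) ≤ centralizer (R : Set X)) : False := by
  obtain ⟨P, hP⟩ := exists_sylow_map_eq hR.le hR.card
  have hP' : normalizer ((P : Subgroup G) : Set G) ≤ centralizer ((P : Subgroup G) : Set G) := by
    intro g hg
    refine mem_centralizer_iff.2 fun y hy => Subtype.ext ?_
    have hgR : (g : X) ∈ normalizer (R : Set X) := by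
      rw [← hP]
      exact le_normalizer_map (H := (P : Subgroup G)) G.subtype ⟨g, hg, rfl⟩
    exact mem_centralizer_iff.1 (h (mem_inf.2 ⟨g.2, hgR⟩)) (y : X)
      (hP.le ⟨y, hy, rfl⟩)
  exact M.no_complement hR hne P _ inferInstance
    (MonoidHom.ker_transferSylow_isComplement' P hP')

/-- Thompson's transfer theorem in a minimal counterexample, for odd primes. -/
theorem no_thompson (M : Minimal G A q) {R : Subgroup X} (hR : IsInvSylow G A r R) (hne : R ≠ ⊥)
    (hr : r ≠ 2)
    (h : ∀ (t : ℕ) [Fact t.Prime] (Y : Subgroup X), t ≠ r → IsPGroup t Y → Y ≤ G →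
      A ≤ normalizer (Y : Set X) → Y ≤ normalizer (R : Set X) → Y ≤ centralizer (R : Set X)) :
    False := by
  classical
  let Z : Fusion.GlaubermanThompson.ZFun.{u} r := Fusion.GlaubermanThompson.zFunFull hr
  set W := Z.w R with hW
  have hWR : W ≤ R := Z.le R
  have hWA : A ≤ normalizer (W : Set X) := hR.inv.trans (Z.normalizer_le R)
  set N := G ⊓ normalizer (W : Set X) with hN
  have hNA : A ≤ normalizer (N : Set X) := inv_inf M.norm (inv_normalizer hWA)
  have hNG : N ≤ G := inf_le_left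
  have hRN : R ≤ N := le_inf hR.le (le_normalizer.trans (Z.normalizer_le R))
  have hNne : N ≠ G := M.normalizer_ne (hWR.trans hR.le) hWA (Z.ne_bot R hR.pgroup hne)
    (solvable_of_pgroup (hR.pgroup.to_le hWR))
  -- every other Sylow subgroup of `N` is normalised by `R`
  have hT : ∀ (t : ℕ) [Fact t.Prime], t ≠ r → ∀ T, IsInvSylow G A t T →
      R ≤ normalizer ((T ⊓ N : Subgroup X) : Set X) := by
    intro t _ htr T hT
    obtain ⟨D, hD, -, hDR, hdec⟩ := M.exists_core htr.symm hR hT hNG hNne hNA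
    rw [inf_eq_left.2 hRN] at hDR hdec
    set Y := T ⊓ N ⊓ normalizer (R : Set X) with hY
    have hYR : Y ≤ centralizer (R : Set X) := h t Y htr
      (hT.pgroup.to_le (inf_le_left.trans inf_le_left)) (inf_le_left.trans (inf_le_right.trans hNG))
      (inv_inf (inv_inf hT.inv hNA) (inv_normalizer hR.inv)) inf_le_right
    refine le_normalizer_iff.2 fun x hx y hy => ?_
    obtain ⟨d, hd, n, hn, rfl⟩ := hdec y hy
    have hxn : x * n = n * x := mem_centralizer_iff.1 (hYR hn) x hx
    have e : x * (d * n) * x⁻¹ = x * d * x⁻¹ * n := by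
      calc x * (d * n) * x⁻¹ = x * d * x⁻¹ * (x * n) * x⁻¹ := by group
        _ = _ := by rw [hxn]; group
    rw [e]
    exact mul_mem (hD (le_normalizer_iff.1 hDR x hx d hd)) (mem_inf.1 hn).1
  -- the invariant Hall `r'`-subgroup of `N`
  obtain ⟨K, hK, hKA⟩ := exists_invariant_hall {t | t ≠ r} hNA (M.copr hNG)
    (M.proper N hNG hNne hNA)
  have hKG : K ≤ G := hK.1.trans hNG
  have hpart : ∀ (t : ℕ) [Fact t.Prime], t ≠ r → ∀ T, IsInvSylow G A t T →
      T ⊓ N = T ⊓ K := fun t _ ht T hT => by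
    refine (eq_of_le_of_card_ge (inf_le_inf_left _ hK.1) ?_).symm
    rw [M.card_invSylow_inf hT hNG hNA, M.card_invSylow_inf hT hKG hKA]
    refine Nat.pow_le_pow_right (Fact.out : t.Prime).pos ?_
    rw [← relIndex_bot_left, ← relIndex_mul_relIndex ⊥ K N bot_le hK.1,
      relIndex_bot_left, Nat.factorization_mul Nat.card_pos.ne'
      (ne_zero_of_dvd_ne_zero Nat.card_pos.ne' (relIndex_dvd_card K N)), Finsupp.add_apply,
      Nat.factorization_eq_zero_of_not_dvd (hK.2.2 t Fact.out ht), add_zero]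
  -- `R` normalises `K`
  have hRK : R ≤ normalizer (K : Set X) := by
    refine le_normalizer_iff.2 fun x hx k hk => ?_
    have hL : K ⊓ K.comap (MulAut.conj x).toMonoidHom = K := by
      refine eq_of_le_of_card_ge inf_le_left (Nat.le_of_dvd Nat.card_pos ?_)
      rw [← Nat.factorization_le_iff_dvd Nat.card_pos.ne' Nat.card_pos.ne']
      intro t
      by_cases ht : t.Prime ∧ t ∣ Nat.card K
      · haveI := Fact.mk ht.1
        have htr : t ≠ r := hK.2.1 t ht.1 ht.2
        obtain ⟨T, hT'⟩ := M.exists_invSylow t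
        refine (ht.1.pow_dvd_iff_le_factorization Nat.card_pos.ne').1 ?_
        rw [← M.card_invSylow_inf hT' hKG hKA]
        refine card_dvd_of_le (le_inf inf_le_right fun y hy => ?_)
        rw [← hpart t htr T hT'] at hy
        have := le_normalizer_iff.1 (hT t htr T hT') x hx y hy
        rw [hpart t htr T hT'] at this
        exact (mem_inf.1 this).2
      · rcases not_and_or.1 ht with h' | h'
        · simp [Nat.factorization_eq_zero_of_not_prime _ h']
        · simp [Nat.factorization_eq_zero_of_not_dvd h']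
    rw [← hL] at hk
    exact (mem_inf.1 hk).2
  have hKcop : (Nat.card K).Coprime r := by
    rw [Nat.coprime_comm, (Fact.out : r.Prime).coprime_iff_not_dvd]
    exact fun hd => hK.2.1 r Fact.out hd rfl
  have hcard : Nat.card K * Nat.card R = Nat.card N := by
    refine Nat.dvd_antisymm ?_ ?_
    · refine Nat.Coprime.mul_dvd_of_dvd_of_dvd ?_ (card_dvd_of_le hK.1) (card_dvd_of_le hRN)
      rw [hR.card]
      exact hKcop.pow_right _
    · rw [← Nat.factorization_le_iff_dvd Nat.card_pos.ne' (Nat.mul_pos Nat.card_pos Nat.card_pos).ne']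
      intro t
      by_cases ht : t.Prime ∧ t ∣ Nat.card N
      · haveI := Fact.mk ht.1
        refine (ht.1.pow_dvd_iff_le_factorization (Nat.mul_pos Nat.card_pos Nat.card_pos).ne').1 ?_
        obtain ⟨T, hT'⟩ := M.exists_invSylow t
        rw [← M.card_invSylow_inf hT' hNG hNA]
        by_cases htr : t = r
        · subst htr
          exact ((card_dvd_of_le inf_le_left).trans (by rw [hT'.card, hR.card])).trans
            (dvd_mul_left _ _)
        · rw [hpart t htr T hT']
          exact (card_dvd_of_le inf_le_right).trans (dvd_mul_right _ _)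
      · rcases not_and_or.1 ht with h' | h'
        · simp [Nat.factorization_eq_zero_of_not_prime _ h']
        · simp [Nat.factorization_eq_zero_of_not_dvd h']
  have hNK : N ≤ normalizer (K : Set X) := by
    refine le_trans (eq_of_le_of_card_ge (sup_le hK.1 hRN) ?_).ge (sup_le le_normalizer hRK)
    rw [← hcard, ← card_sup_of_le_normalizer hRK (disjoint_of_coprime_natCard
      (by rw [hR.card]; exact hKcop.pow_right _))]
  -- the hypothesis of Thompson's theorem
  obtain ⟨P, hP⟩ := exists_sylow_map_eq hR.le hR.card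
  set NG := normalizer ((Z.w (P : Subgroup G) : Subgroup G) : Set G) with hNGdef
  have hWP : (Z.w (P : Subgroup G)).map G.subtype = W := by
    rw [hW, ← hP, Z.map_inj G.subtype G.subtype_injective]
  have hmemN : ∀ g : G, g ∈ NG ↔ (g : X) ∈ N := by
    intro g
    constructor
    · intro hg
      refine mem_inf.2 ⟨g.2, ?_⟩
      rw [← hWP]
      exact le_normalizer_map (H := Z.w (P : Subgroup G)) G.subtype ⟨g, hg, rfl⟩
    · intro hg
      rw [hNGdef, mem_normalizer_iff]
      intro y
      have h1 := mem_normalizer_iff.1 (mem_inf.1 hg).2 (y : X)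
      rw [← hWP] at h1
      have inj := fun z : G => mem_map_iff_mem (f := G.subtype) G.subtype_injective
        (K := Z.w (P : Subgroup G)) (x := z)
      exact ((inj y).symm.trans h1).trans (inj (g * y * g⁻¹))
  have hPN : (P : Subgroup G) ≤ NG := fun g hg => (hmemN g).2 (hRN (hP.le ⟨g, hg, rfl⟩))
  have hhyp : Fusion.GlaubermanThompson.Hyp Z (P : Subgroup G) := by
    let K' : Subgroup NG := (K.comap G.subtype).subgroupOf NG
    refine ⟨P.subtype hPN, K', ⟨fun y hy g => ?_⟩, ?_⟩
    · exact le_normalizer_iff.1 hNK _ ((hmemN g).1 g.2) _ hy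
    · have hK'card : Nat.card K' = Nat.card K := by
        rw [Nat.card_congr (subgroupOfEquivOfLe (fun x hx => (hmemN x).2 (hK.1 hx) :
          K.comap G.subtype ≤ NG)).toEquiv]
        exact Nat.card_congr (subgroupOfEquivOfLe hKG).toEquiv
      have hPcard : Nat.card (P.subtype hPN : Subgroup NG) = Nat.card R := by
        rw [Sylow.coe_subtype, Nat.card_congr (subgroupOfEquivOfLe hPN).toEquiv, ← hP,
          card_map_subtype]
      have hNGcard : Nat.card NG = Nat.card N := by
        rw [← card_map_subtype NG]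
        congr
        ext x
        exact ⟨fun ⟨g, hg, e⟩ => e ▸ (hmemN g).1 hg, fun hx =>
          ⟨⟨x, hNG hx⟩, (hmemN _).2 hx, rfl⟩⟩
      refine isComplement'_of_coprime ?_ ?_
      · rw [hK'card, hPcard, hNGcard, hcard]
      · rw [hK'card, hPcard, hR.card]
        exact hKcop.pow_right _
  obtain ⟨P', N', hN', hNP'⟩ := Fusion.GlaubermanThompson.npc_aux Z hr _ G rfl P hhyp
  exact M.no_complement hR hne P' N' hN' hNP'

end Minimal

namespace Pair

variable {R S : Subgroup X}

/-- Distinguished lines of the two Sylow subgroups are distinct, and have no fixed points in the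
other. -/
theorem lines (M : Minimal G A q) (P : Pair G A r s R S) :
    ∃ a ∈ A, a ≠ 1 ∧ ∃ b ∈ A, b ≠ 1 ∧ b ∉ zpowers a ∧
      R ⊓ centralizer (R : Set X) ⊓ centralizer ({a} : Set X) ≠ ⊥ ∧
      S ⊓ centralizer ({a} : Set X) = ⊥ ∧ R ⊓ centralizer ({b} : Set X) = ⊥ ∧
      ∀ c ∈ A, c ≠ 1 → c ∉ zpowers b →
        S ⊓ normalizer (R : Set X) ⊓ centralizer ({c} : Set X) = ⊥ := by
  have hW := P.max_eq_bot M
  have hU := P.symm.max_eq_bot M
  obtain ⟨a, ha, ha1, hZa⟩ := P.symm.exists_central_line M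
  obtain ⟨b, hb, hb1, hZb⟩ := P.exists_central_line M
  set X₀ := R ⊓ centralizer (R : Set X) ⊓ centralizer ({a} : Set X) with hX₀
  have hX₀R : X₀ ≤ R := inf_le_left.trans inf_le_left
  have hX₀A : A ≤ normalizer (X₀ : Set X) :=
    inv_inf (inv_inf P.left.inv (inv_centralizer P.left.inv)) (inv_singleton ha M.comm)
  have hba : b ∉ zpowers a := by
    intro hba
    have hX₀S : X₀ ≤ normalizer (S : Set X) := fun x hx =>
      P.line_le_normalizer M hU hb hb1 hZb
        (mem_inf.2 ⟨hX₀R hx, mem_centralizer_of_zpowers hba (mem_inf.1 hx).2⟩)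
    set K := ⁅S, X₀⁆ with hK
    have hKS : K ≤ S := le_normalizer_iff_commutator_le_left.1 hX₀S
    have hKA : A ≤ normalizer (K : Set X) := fun c hc => by
      rw [mem_normalizer_iff_map_conj_eq, map_commutator,
        mem_normalizer_iff_map_conj_eq.1 (P.right.inv hc),
        mem_normalizer_iff_map_conj_eq.1 (hX₀A hc)]
    have hidem : ⁅K, X₀⁆ = K := commutator_commutator_self hX₀S
      (coprime_of_pgroup (P.left.pgroup.to_le hX₀R) P.right.pgroup P.ne)
      (.inr (solvable_of_pgroup P.right.pgroup))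
    have hline : ∀ d ∈ A, d ∉ zpowers a →
        R ⊓ centralizer ({d} : Set X) ≤ centralizer (K : Set X) := by
      intro d hd hda
      have hd1 : d ≠ 1 := fun e => hda (e ▸ one_mem _)
      refine le_centralizer_iff.1 (M.le_of_fixed_le (hKS.trans P.right.le) hKA
        (P.right.pgroup.to_le hKS) (hX₀R.trans P.left.le) hX₀A (P.left.pgroup.to_le hX₀R)
        P.ne.symm (normalizer_commutator_ge_right S X₀) ha ha1 hd hda inf_le_right hidem
        (inv_centralizer (inv_inf P.left.inv (inv_singleton hd M.comm)) hd) ?_ ?_)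
      · exact ((inf_le_left : X₀ ≤ _).trans inf_le_right).trans
          ((centralizer_le (SetLike.coe_subset_coe.2 inf_le_left)).trans
            ((centralizer_le_normalizer _).trans (inv_centralizer le_rfl)))
      · exact fun k hk => mem_centralizer_iff.2 fun x hx => M.ab d hd hd1 x
          (mem_inf.2 ⟨P.left.le (mem_inf.1 hx).1, (mem_inf.1 hx).2⟩) k
          (mem_inf.2 ⟨P.right.le (hKS (mem_inf.1 hk).1), (mem_inf.1 hk).2⟩)
    have hRK : R ≤ normalizer (K : Set X) := by
      refine M.le_of_lines P.left.le P.left.inv fun c hc hc1 => ?_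
      by_cases hca : c ∈ zpowers a
      · intro x hx
        have hxa := mem_centralizer_of_zpowers (M.mem_zpowers_symm ha hc hc1 hca) (mem_inf.1 hx).2
        have hxS := P.line_le_normalizer M hU hb hb1 hZb
          (mem_inf.2 ⟨(mem_inf.1 hx).1, mem_centralizer_of_zpowers hba hxa⟩)
        have hxX : x ∈ centralizer (X₀ : Set X) := mem_centralizer_iff.2 fun y hy =>
          (mem_centralizer_iff.1 (mem_inf.1 (mem_inf.1 hy).1).2 x (mem_inf.1 hx).1).symm
        rw [mem_normalizer_iff_map_conj_eq, map_commutator,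
          mem_normalizer_iff_map_conj_eq.1 hxS,
          mem_normalizer_iff_map_conj_eq.1 (centralizer_le_normalizer _ hxX)]
      · exact (hline c hc hca).trans (centralizer_le_normalizer _)
    have hK0 : K = ⊥ := le_bot_iff.1 (hW ▸ le_maxNorm hKS hKA hRK)
    have : X₀ ≤ maxNorm A S R := le_trans
      (le_inf hX₀R (le_centralizer_iff.1 (commutator_eq_bot_iff_le_centralizer.1 hK0)))
      P.symm.centralizer_le_max
    exact hZa (le_bot_iff.1 (hU ▸ this))
  have hab : a ∉ zpowers b := fun h => hba (M.mem_zpowers_symm hb ha ha1 h)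
  refine ⟨a, ha, ha1, b, hb, hb1, hba, hZa, ?_, ?_, fun c hc hc1 hcb => ?_⟩
  · refine le_bot_iff.1 (le_trans (le_inf (le_inf inf_le_left
      (P.symm.line_le_normalizer M hW ha ha1 hZa)) inf_le_right) ?_)
    exact hW ▸ P.norm_line_le_max M hU hb hb1 hZb ha ha1 hab
  · refine le_bot_iff.1 (le_trans (le_inf (le_inf inf_le_left
      (P.line_le_normalizer M hU hb hb1 hZb)) inf_le_right) ?_)
    exact hU ▸ P.symm.norm_line_le_max M hW ha ha1 hZa hb hb1 hba
  · exact le_bot_iff.1 (hW ▸ P.norm_line_le_max M hU hb hb1 hZb hc hc1 hcb)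

/-- The contradiction, for an odd left prime. -/
theorem false_of_odd (M : Minimal G A q) (P : Pair G A r s R S) (hr : r ≠ 2) : False := by
  classical
  have hW := P.max_eq_bot M
  obtain ⟨a, ha, ha1, b, hb, hb1, hba, hXne, hSa, hRb, hY0⟩ := P.lines M
  -- fixed points of `R`
  have hRd : ∀ d ∈ A, d ∉ zpowers b → R ⊓ centralizer ({d} : Set X) ≠ ⊥ := by
    intro d hd hdb h0
    refine M.no_thompson P.left (P.left_ne_bot M) hr fun t _ Y htr hYp hYG hYA hYR => ?_
    suffices h : Y ≤ Y ⊓ centralizer (R : Set X) from h.trans inf_le_right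
    refine M.le_of_lines hYG hYA fun c hc hc1 => ?_
    refine le_inf inf_le_left ?_
    by_cases hbc : b ∈ zpowers c
    · have hdc : d ∉ zpowers c := fun h => hdb (zpowers_le.2 (M.mem_zpowers_symm hc hb hb1 hbc) h)
      exact M.centralizes_of_fixed P.left.le P.left.inv P.left.pgroup (inf_le_left.trans hYG)
        (inv_inf hYA (inv_singleton hc M.comm)) (hYp.to_le inf_le_left) htr.symm
        (inf_le_left.trans hYR) hc hc1 hd hdc inf_le_right (h0 ▸ bot_le)
    · exact M.centralizes_of_fixed P.left.le P.left.inv P.left.pgroup (inf_le_left.trans hYG)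
        (inv_inf hYA (inv_singleton hc M.comm)) (hYp.to_le inf_le_left) htr.symm
        (inf_le_left.trans hYR) hc hc1 hb hbc inf_le_right (hRb ▸ bot_le)
  -- a common line
  obtain ⟨d, hd, hd1, hdb, hSd⟩ : ∃ d ∈ A, d ≠ 1 ∧ d ∉ zpowers b ∧
      S ⊓ centralizer ({d} : Set X) ≠ ⊥ := by
    by_contra hcon
    push Not at hcon
    have hS0 : ∀ c ∈ A, c ≠ 1 → c ∉ zpowers b → S ⊓ centralizer ({c} : Set X) = ⊥ := hcon
    have hSb : S ≤ centralizer ({b} : Set X) := M.le_of_lines P.right.le P.right.inv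
      fun c hc hc1 => by
        by_cases hcb : c ∈ zpowers b
        · exact fun x hx =>
            mem_centralizer_of_zpowers (M.mem_zpowers_symm hb hc hc1 hcb) (mem_inf.1 hx).2
        · exact (hS0 c hc hc1 hcb).le.trans bot_le
    set K := G ⊓ normalizer (S : Set X) with hK
    have hKA : A ≤ normalizer (K : Set X) := inv_inf M.norm (inv_normalizer P.right.inv)
    have hKG : K ≤ G := inf_le_left
    refine M.no_burnside P.right (P.symm.left_ne_bot M) ?_
    suffices hKC : K ⊓ centralizer (S : Set X) = K from hKC.ge.trans inf_le_right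
    refine eq_of_le_of_card_ge inf_le_left (Nat.le_of_dvd Nat.card_pos ?_)
    rw [← Nat.factorization_le_iff_dvd Nat.card_pos.ne' Nat.card_pos.ne']
    intro t
    by_cases ht : t.Prime
    swap
    · simp [Nat.factorization_eq_zero_of_not_prime _ ht]
    haveI := Fact.mk ht
    obtain ⟨T, hT⟩ := M.exists_invSylow t
    refine (ht.pow_dvd_iff_le_factorization Nat.card_pos.ne').1 ?_
    rw [← M.card_invSylow_inf hT hKG hKA]
    refine card_dvd_of_le (le_inf inf_le_right ?_)
    by_cases hts : t = s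
    · subst hts
      intro x hx
      have hxS : x ∈ S := M.le_invSylow P.right hT.le hT.inv hT.pgroup (mem_inf.1 hx).1
      exact mem_centralizer_iff.2 fun y hy => M.ab b hb hb1 y
        (mem_inf.2 ⟨P.right.le hy, hSb hy⟩) x (mem_inf.2 ⟨P.right.le hxS, hSb hxS⟩)
    · refine le_trans (M.le_of_lines (inf_le_right.trans hKG) (inv_inf hT.inv hKA) fun c hc hc1 => ?_)
        (le_refl (centralizer (S : Set X)))
      obtain ⟨e, he, hec, heb⟩ := M.exists_third hc hb
      exact M.centralizes_of_fixed P.right.le P.right.inv P.right.pgroup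
        (inf_le_left.trans (inf_le_right.trans hKG))
        (inv_inf (inv_inf hT.inv hKA) (inv_singleton hc M.comm))
        (hT.pgroup.to_le (inf_le_left.trans inf_le_left)) (Ne.symm hts)
        (inf_le_left.trans (inf_le_right.trans inf_le_right)) hc hc1 he hec inf_le_right
        ((hS0 e he (fun h => heb (h ▸ one_mem _)) heb).le.trans bot_le)
  have hda : d ∉ zpowers a := fun h => hSd (le_bot_iff.1 (le_trans (fun x hx => mem_inf.2
    ⟨(mem_inf.1 hx).1, mem_centralizer_of_zpowers (M.mem_zpowers_symm ha hd hd1 h)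
      (mem_inf.1 hx).2⟩) hSa.le))
  have hadd : a ∉ zpowers d := fun h => hda (M.mem_zpowers_symm hd ha ha1 h)
  have hbd : b ∉ zpowers d := fun h => hdb (M.mem_zpowers_symm hd hb hb1 h)
  set X₀ := R ⊓ centralizer (R : Set X) ⊓ centralizer ({a} : Set X) with hX₀
  have hX₀R : X₀ ≤ R := inf_le_left.trans inf_le_left
  have hX₀A : A ≤ normalizer (X₀ : Set X) :=
    inv_inf (inv_inf P.left.inv (inv_centralizer P.left.inv)) (inv_singleton ha M.comm)
  set Q := R ⊓ centralizer ({d} : Set X) with hQ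
  have hQA : A ≤ normalizer (Q : Set X) := inv_inf P.left.inv (inv_singleton hd M.comm)
  -- the centraliser of `X₀` in `S` is in the line of `b`
  have hSX : S ⊓ centralizer (X₀ : Set X) ≤ centralizer ({b} : Set X) := by
    set H := G ⊓ centralizer (X₀ : Set X) with hH
    have hRH : R ⊓ H = R := inf_eq_left.2
      (le_inf P.left.le (le_centralizer_iff.1 (inf_le_left.trans inf_le_right)))
    obtain ⟨D, hD, hDA, hDR, hdec⟩ := M.exists_core P.ne P.left P.right (inf_le_left : H ≤ G)
      (M.centralizer_ne (hX₀R.trans P.left.le) hX₀A hXne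
        (solvable_of_pgroup (P.left.pgroup.to_le hX₀R)))
      (inv_inf M.norm (inv_centralizer hX₀A))
    rw [hRH] at hDR hdec
    have hD0 : D = ⊥ := le_bot_iff.1 (hW ▸ le_maxNorm (hD.trans inf_le_left) hDA hDR)
    refine le_trans (fun y hy => ?_ : _ ≤ S ⊓ normalizer (R : Set X)) ?_
    · obtain ⟨e, he, n, hn, rfl⟩ := hdec y
        (mem_inf.2 ⟨(mem_inf.1 hy).1, mem_inf.2 ⟨P.right.le (mem_inf.1 hy).1, (mem_inf.1 hy).2⟩⟩)
      rw [hD0, mem_bot] at he
      rw [he, one_mul]
      exact ⟨(mem_inf.1 (mem_inf.1 hn).1).1, (mem_inf.1 hn).2⟩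
    · refine M.le_of_lines (inf_le_left.trans P.right.le)
        (inv_inf P.right.inv (inv_normalizer P.left.inv)) fun c hc hc1 => ?_
      by_cases hcb : c ∈ zpowers b
      · exact fun x hx =>
          mem_centralizer_of_zpowers (M.mem_zpowers_symm hb hc hc1 hcb) (mem_inf.1 hx).2
      · exact (hY0 c hc hc1 hcb).le.trans bot_le
  -- elements normalising a subgroup containing `X₀` lie in the line of `b`
  have hline : ∀ R' : Subgroup X, R' ≤ R → A ≤ normalizer (R' : Set X) → X₀ ≤ R' →
      ∀ c ∈ A, c ≠ 1 → c ∉ zpowers b →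
      S ⊓ normalizer (R' : Set X) ⊓ centralizer ({c} : Set X) = ⊥ := by
    intro R' hR'R hR'A hXR' c hc hc1 hcb
    set Y := S ⊓ normalizer (R' : Set X) ⊓ centralizer ({c} : Set X) with hY
    have hYS : Y ≤ S := inf_le_left.trans inf_le_left
    have hYC : Y ≤ centralizer (R' : Set X) :=
      M.centralizes_of_fixed (hR'R.trans P.left.le) hR'A (P.left.pgroup.to_le hR'R)
        (hYS.trans P.right.le)
        (inv_inf (inv_inf P.right.inv (inv_normalizer hR'A)) (inv_singleton hc M.comm))
        (P.right.pgroup.to_le hYS) P.ne (inf_le_left.trans inf_le_right) hc hc1 hb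
        (fun h => hcb (M.mem_zpowers_symm hc hb hb1 h)) inf_le_right
        ((inf_le_inf_right _ hR'R).trans (hRb.le.trans bot_le))
    refine eq_bot_iff.2 fun y hy => mem_bot.2 ?_
    refine M.inter_lines hb hb1 hc hcb (P.right.le (hYS hy)) ?_ (mem_inf.1 hy).2
    exact hSX (mem_inf.2 ⟨hYS hy, centralizer_le (SetLike.coe_subset_coe.2 hXR') (hYC hy)⟩)
  -- the initial subgroup
  set Good : Subgroup X → Prop := fun R' => R' ≤ R ∧ A ≤ normalizer (R' : Set X) ∧ X₀ ≤ R' ∧
    Q ≤ R' ∧ ∃ W₁ : Subgroup X, W₁ ≤ S ∧ A ≤ normalizer (W₁ : Set X) ∧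
      R' ≤ normalizer (W₁ : Set X) ∧ ¬ W₁ ≤ centralizer ({b} : Set X) with hGood
  have hex : ∃ R', Good R' := by
    set H := G ⊓ centralizer (Q : Set X) with hH
    have hHA : A ≤ normalizer (H : Set X) := inv_inf M.norm (inv_centralizer hQA)
    obtain ⟨D, hD, hDA, hDR, hdec⟩ := M.exists_core P.ne P.left P.right (inf_le_left : H ≤ G)
      (M.centralizer_ne (inf_le_left.trans P.left.le) hQA (hRd d hd hdb)
        (solvable_of_pgroup (P.left.pgroup.to_le inf_le_left))) hHA
    set R'' := R ⊓ H with hR''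
    have hR''A : A ≤ normalizer (R'' : Set X) := inv_inf P.left.inv hHA
    have hXR'' : X₀ ≤ R'' := le_inf hX₀R (le_inf (hX₀R.trans P.left.le)
      ((inf_le_left.trans inf_le_right).trans (centralizer_le (SetLike.coe_subset_coe.2 inf_le_left))))
    refine ⟨R'', inf_le_left, hR''A, hXR'', le_inf inf_le_left (le_inf (inf_le_left.trans P.left.le)
      fun x hx => mem_centralizer_iff.2 fun y hy => M.ab d hd hd1 y
        (mem_inf.2 ⟨P.left.le (mem_inf.1 hy).1, (mem_inf.1 hy).2⟩) x
        (mem_inf.2 ⟨P.left.le (mem_inf.1 hx).1, (mem_inf.1 hx).2⟩)), D, hD.trans inf_le_left,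
      hDA, hDR, fun hDb => hSd (le_bot_iff.1 fun y hy => mem_bot.2 ?_)⟩
    have hyH : y ∈ S ⊓ H := mem_inf.2 ⟨(mem_inf.1 hy).1, mem_inf.2 ⟨P.right.le (mem_inf.1 hy).1,
      mem_centralizer_iff.2 fun x hx => M.ab d hd hd1 x
        (mem_inf.2 ⟨P.left.le (mem_inf.1 hx).1, (mem_inf.1 hx).2⟩) y
        (mem_inf.2 ⟨P.right.le (mem_inf.1 hy).1, (mem_inf.1 hy).2⟩)⟩⟩
    obtain ⟨e, he, n, hn, hen⟩ := hdec y hyH
    have hDG : D ≤ G := (hD.trans inf_le_left).trans P.right.le
    obtain ⟨e', he', n', hn', h'⟩ := centralizer_of_mul (A := zpowers d) (U := D)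
      (V := S ⊓ normalizer (R'' : Set X)) (zpowers_le.2 (hDA hd))
      (zpowers_le.2 (inv_inf P.right.inv (inv_normalizer hR''A) hd))
      (coprime_of_le M.cop (zpowers_le.2 hd) hDG) (.inl (isSolvable_zpowers d)) he
      (mem_inf.2 ⟨(mem_inf.1 (mem_inf.1 hn).1).1, (mem_inf.1 hn).2⟩)
      (by rw [zpowers_eq_closure, centralizer_closure, hen]; exact (mem_inf.1 hy).2)
    have hn1 : n' = 1 := by
      have : n' ∈ S ⊓ normalizer (R'' : Set X) ⊓ centralizer ({d} : Set X) :=
        mem_inf.2 ⟨(mem_inf.1 hn').1, mem_centralizer_singleton_iff.2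
          (mem_centralizer_iff.1 (mem_inf.1 hn').2 d (mem_zpowers d)).symm⟩
      rwa [hline R'' inf_le_left hR''A hXR'' d hd hd1 hdb, mem_bot] at this
    rw [← hen, h', hn1, mul_one]
    exact M.inter_lines hd hd1 hb hbd (hDG (mem_inf.1 he').1)
      (mem_centralizer_singleton_iff.2
        (mem_centralizer_iff.1 (mem_inf.1 he').2 d (mem_zpowers d)).symm)
      (hDb (mem_inf.1 he').1)
  obtain ⟨R₀, hR₀⟩ := hex
  obtain ⟨R₁, -, hR₁⟩ := Finite.exists_le_maximal (p := Good) hR₀
  obtain ⟨hR₁R, hR₁A, hXR₁, hQR₁, W₁, hW₁S, hW₁A, hR₁W₁, hW₁b⟩ := hR₁.prop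
  have hlt : R₁ < R := lt_of_le_of_ne hR₁R fun e => hW₁b <| by
    have := le_maxNorm hW₁S hW₁A (e ▸ hR₁W₁)
    rw [hW] at this
    exact this.trans bot_le
  have hXW : ¬ X₀ ≤ centralizer (W₁ : Set X) := fun h =>
    hW₁b ((le_inf hW₁S (le_centralizer_iff.1 h)).trans hSX)
  -- growth happens only in the line of `a`
  set R₂ := R ⊓ normalizer (R₁ : Set X) with hR₂
  have hgrow : ∀ c ∈ A, c ≠ 1 → c ∉ zpowers a → R₂ ⊓ centralizer ({c} : Set X) ≤ R₁ := by
    intro c hc hc1 hca
    by_cases hcb : c ∈ zpowers b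
    · refine fun x hx => ?_
      have : x ∈ R ⊓ centralizer ({b} : Set X) := mem_inf.2 ⟨(mem_inf.1 (mem_inf.1 hx).1).1,
        mem_centralizer_of_zpowers (M.mem_zpowers_symm hb hc hc1 hcb) (mem_inf.1 hx).2⟩
      rw [hRb, mem_bot] at this
      exact this ▸ one_mem _
    · set Kc := R₂ ⊓ centralizer ({c} : Set X) with hKc
      set V := W₁ ⊓ centralizer ({c} : Set X) with hV
      have hVA : A ≤ normalizer (V : Set X) := inv_inf hW₁A (inv_singleton hc M.comm)
      have hVne : V ≠ ⊥ := M.fixed_ne_bot (hW₁S.trans P.right.le) hW₁A (P.right.pgroup.to_le hW₁S)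
        (hX₀R.trans P.left.le) hX₀A (P.left.pgroup.to_le hX₀R) P.ne.symm (hXR₁.trans hR₁W₁)
        ha ha1 hc hca inf_le_right hXW
      set E := conjClosure R₁ V with hE
      have hEb : ¬ E ≤ centralizer ({b} : Set X) := fun h => hVne (le_bot_iff.1 fun x hx =>
        mem_bot.2 (M.inter_lines hb hb1 hc hcb (P.right.le (hW₁S (mem_inf.1 hx).1))
          (h (le_conjClosure _ _ hx)) (mem_inf.1 hx).2))
      have hKV : Kc ≤ centralizer (V : Set X) := fun x hx => mem_centralizer_iff.2 fun y hy =>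
        M.ab c hc hc1 y (mem_inf.2 ⟨P.right.le (hW₁S (mem_inf.1 hy).1), (mem_inf.1 hy).2⟩) x
          (mem_inf.2 ⟨P.left.le (mem_inf.1 (mem_inf.1 hx).1).1, (mem_inf.1 hx).2⟩)
      have hgood : Good (R₁ ⊔ Kc) := ⟨sup_le hR₁R (inf_le_left.trans inf_le_left),
        inv_sup hR₁A (inv_inf (inv_inf P.left.inv (inv_normalizer hR₁A)) (inv_singleton hc M.comm)),
        hXR₁.trans le_sup_left, hQR₁.trans le_sup_left, E,
        (conjClosure_le inf_le_left hR₁W₁).trans hW₁S, le_normalizer_conjClosure hVA hR₁A,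
        sup_le (normalizer_conjClosure_self _ _)
          (le_normalizer_conjClosure (hKV.trans (centralizer_le_normalizer _))
            (inf_le_left.trans inf_le_right)), hEb⟩
      exact le_sup_right.trans (hR₁.le_of_ge hgood le_sup_left)
  -- the commutator of `R₁` with `a`
  set C₁ := R₁ ⊓ centralizer (W₁ : Set X) with hC₁
  have hC₁A : A ≤ normalizer (C₁ : Set X) := inv_inf hR₁A (inv_centralizer hW₁A)
  have hR₁C₁ : R₁ ≤ normalizer (C₁ : Set X) :=
    (le_inf le_normalizer (inv_centralizer hR₁W₁)).trans inf_normalizer_le_normalizer_inf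
  have hR₁dec : R₁ ≤ C₁ ⊔ (R₁ ⊓ centralizer ({a} : Set X)) := by
    refine M.le_of_lines (hR₁R.trans P.left.le) hR₁A fun c hc hc1 => ?_
    by_cases hca : c ∈ zpowers a
    · exact le_trans (fun x hx => mem_inf.2 ⟨(mem_inf.1 hx).1,
        mem_centralizer_of_zpowers (M.mem_zpowers_symm ha hc hc1 hca) (mem_inf.1 hx).2⟩)
        le_sup_right
    · refine le_trans (le_inf inf_le_left ?_) le_sup_left
      exact M.centralizes_of_fixed (hW₁S.trans P.right.le) hW₁A (P.right.pgroup.to_le hW₁S)
        ((inf_le_left.trans hR₁R).trans P.left.le) (inv_inf hR₁A (inv_singleton hc M.comm))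
        (P.left.pgroup.to_le (inf_le_left.trans hR₁R)) P.ne.symm (inf_le_left.trans hR₁W₁) hc hc1 ha
        (fun h => hca (M.mem_zpowers_symm hc ha ha1 h)) inf_le_right
        ((inf_le_inf_right _ hW₁S).trans (hSa.le.trans bot_le))
  set M' := ⁅R₁, zpowers a⁆ with hM'
  have hM'C : M' ≤ C₁ := by
    refine commutator_le.2 fun k hk e he => ?_
    obtain ⟨c, hc, z, hz, rfl⟩ :=
      (mem_sup_of_le_normalizer (inf_le_left.trans hR₁C₁)).1 (hR₁dec hk)
    have hze : z * e = e * z := mem_centralizer_singleton_iff.1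
      (mem_centralizer_of_zpowers he (mem_inf.1 hz).2)
    have e' : ⁅c * z, e⁆ = c * (e * c⁻¹ * e⁻¹) := by
      calc ⁅c * z, e⁆ = c * (z * e) * z⁻¹ * c⁻¹ * e⁻¹ := by rw [commutatorElement_def]; group
        _ = _ := by rw [hze]; group
    rw [e']
    exact mul_mem hc (le_normalizer_iff.1 hC₁A e (zpowers_le.2 ha he) _ (inv_mem hc))
  have hM'R₁ : M' ≤ R₁ := hM'C.trans inf_le_left
  have haR₁ : zpowers a ≤ normalizer (R₁ : Set X) := (zpowers_le.2 ha).trans hR₁A
  have hM'ne : M' ≠ ⊥ := fun h => hRd d hd hdb (le_bot_iff.1 fun x hx => mem_bot.2 (by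
    have h1 := le_centralizer_iff.1 (commutator_eq_bot_iff_le_centralizer.1 h) (mem_zpowers a)
    exact M.inter_lines hd hd1 ha hadd (P.left.le (mem_inf.1 hx).1) (mem_inf.1 hx).2
      (mem_centralizer_singleton_iff.2 (mem_centralizer_iff.1 h1 x (hQR₁ hx)))))
  have hM'A : A ≤ normalizer (M' : Set X) := fun c hc => by
    have hcz : c ∈ normalizer (zpowers a : Set X) := centralizer_le_normalizer _ (by
      haveI := M.comm
      exact mem_centralizer_iff.2 fun y hy => congrArg Subtype.val
        (mul_comm' (⟨y, zpowers_le.2 ha hy⟩ : A) ⟨c, hc⟩))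
    rw [mem_normalizer_iff_map_conj_eq, map_commutator,
      mem_normalizer_iff_map_conj_eq.1 (hR₁A hc), mem_normalizer_iff_map_conj_eq.1 hcz]
  have hR₂M' : R₂ ≤ normalizer (M' : Set X) := by
    refine M.le_of_lines (inf_le_left.trans P.left.le)
      (inv_inf P.left.inv (inv_normalizer hR₁A)) fun c hc hc1 => ?_
    by_cases hca : c ∈ zpowers a
    · intro x hx
      have hxa := mem_centralizer_of_zpowers (M.mem_zpowers_symm ha hc hc1 hca) (mem_inf.1 hx).2
      have hxz : x ∈ normalizer (zpowers a : Set X) := centralizer_le_normalizer _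
        (mem_centralizer_iff.2 fun y hy => (mem_centralizer_singleton_iff.1
          (mem_centralizer_of_zpowers hy hxa)).symm)
      rw [mem_normalizer_iff_map_conj_eq, map_commutator,
        mem_normalizer_iff_map_conj_eq.1 (mem_inf.1 (mem_inf.1 hx).1).2,
        mem_normalizer_iff_map_conj_eq.1 hxz]
    · exact (hgrow c hc hc1 hca).trans (normalizer_commutator_ge_left R₁ (zpowers a))
  -- the contradiction
  set H := G ⊓ normalizer (M' : Set X) with hH
  have hHA : A ≤ normalizer (H : Set X) := inv_inf M.norm (inv_normalizer hM'A)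
  obtain ⟨D, hD, hDA, hDR, hdec⟩ := M.exists_core P.ne P.left P.right (inf_le_left : H ≤ G)
    (M.normalizer_ne ((hM'R₁.trans hR₁R).trans P.left.le) hM'A hM'ne
      (solvable_of_pgroup (P.left.pgroup.to_le (hM'R₁.trans hR₁R)))) hHA
  set R₃ := R ⊓ H with hR₃
  have hR₃A : A ≤ normalizer (R₃ : Set X) := inv_inf P.left.inv hHA
  have hR₂R₃ : R₂ ≤ R₃ := le_inf inf_le_left (le_inf (inf_le_left.trans P.left.le) hR₂M')
  have hlt3 : R₁ < R₃ := (lt_normalizer_inf_of_lt P.left.pgroup hlt).trans_le hR₂R₃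
  have hXR₃ : X₀ ≤ R₃ := hXR₁.trans hlt3.le
  have hDb : D ≤ centralizer ({b} : Set X) := by
    by_contra hDb
    exact hlt3.not_ge (hR₁.le_of_ge ⟨inf_le_left, hR₃A, hXR₃, hQR₁.trans hlt3.le, D,
      hD.trans inf_le_left, hDA, hDR, hDb⟩ hlt3.le)
  have hYb : S ⊓ normalizer (R₃ : Set X) ≤ centralizer ({b} : Set X) := by
    refine M.le_of_lines (inf_le_left.trans P.right.le)
      (inv_inf P.right.inv (inv_normalizer hR₃A)) fun c hc hc1 => ?_
    by_cases hcb : c ∈ zpowers b
    · exact fun x hx =>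
        mem_centralizer_of_zpowers (M.mem_zpowers_symm hb hc hc1 hcb) (mem_inf.1 hx).2
    · exact (hline R₃ inf_le_left hR₃A hXR₃ c hc hc1 hcb).le.trans bot_le
  refine hW₁b fun w hw => ?_
  obtain ⟨e, he, n, hn, rfl⟩ := hdec w (mem_inf.2 ⟨hW₁S hw, mem_inf.2 ⟨P.right.le (hW₁S hw),
    centralizer_le_normalizer _ (le_centralizer_iff.1 (hM'C.trans inf_le_right) hw)⟩⟩)
  exact mul_mem (hDb he) (hYb (mem_inf.2 ⟨(mem_inf.1 (mem_inf.1 hn).1).1, (mem_inf.1 hn).2⟩))

/-- There is no pair. -/
theorem false (M : Minimal G A q) (P : Pair G A r s R S) : False := by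
  by_cases hr : r = 2
  · exact P.symm.false_of_odd M fun hs => P.ne (hr.trans hs.symm)
  · exact P.false_of_odd M hr

end Pair

end CfsgLib.Coprime.RankTwoAbelian
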