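import Cfsg.Agent.Lib.Coprime.RankTwoAbelian.Setup
import Cfsg.Agent.Lib.OddOrder.FrobeniusFixed
import Cfsg.Agent.Lib.OddOrder.PStable
import Cfsg.Agent.Lib.PGroup.Frattini
import Mathlib

/-!
# Fixed points of one operator against the centraliser of another

If `Y` is fixed by `c` and `d` lies outside the line of `c`, then a `p`-group on which `Y` acts is
controlled by its `d`-fixed points.  We also record the structure of two-prime invariant subgroups
coming from Ward's theorem.
-/

set_option autoImplicit false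
set_option linter.unusedSectionVars false
set_option linter.style.haveILetI false

namespace CfsgLib.Coprime.RankTwoAbelian

open Subgroup
open scoped Pointwise commutatorElement

variable {X : Type*} [Group X] [Finite X] {G A : Subgroup X} {q r s : ℕ} [Fact r.Prime]
  [Fact s.Prime]

namespace Minimal

/-- If `V = [V, Y]` then `V` lies in every `d`- and `Y`-invariant subgroup containing `C_V(d)`. -/
theorem le_of_fixed_le (M : Minimal G A q) {V Y T : Subgroup X}
    (hV : V ≤ G) (hVA : A ≤ normalizer (V : Set X)) (hVp : IsPGroup r V)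
    (hY : Y ≤ G) (hYA : A ≤ normalizer (Y : Set X)) (hYp : IsPGroup s Y) (hrs : r ≠ s)
    (hYV : Y ≤ normalizer (V : Set X))
    {c d : X} (hc : c ∈ A) (hc1 : c ≠ 1) (hd : d ∈ A) (hdc : d ∉ zpowers c)
    (hYc : Y ≤ centralizer ({c} : Set X)) (hcomm : ⁅V, Y⁆ = V)
    (hdT : d ∈ normalizer (T : Set X)) (hYT : Y ≤ normalizer (T : Set X))
    (hC : V ⊓ centralizer ({d} : Set X) ≤ T) : V ≤ T := by
  set Φ : Subgroup X := (frattini V).map V.subtype with hΦ
  set N : Subgroup X := (V ⊓ T) ⊔ Φ with hN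
  have hΦV : Φ ≤ V := map_subtype_le _
  have hNV : N ≤ V := sup_le inf_le_left hΦV
  have hnN : normalizer (V : Set X) ⊓ normalizer (T : Set X) ≤ normalizer (N : Set X) :=
    (le_inf inf_normalizer_le_normalizer_inf
        (inf_le_left.trans (OddOrder.PStable.normalizer_le_normalizer_map V (frattini V)))).trans
      (normalizer_inf_normalizer_le_normalizer_sup _ _)
  have hVN : ⁅V, V⁆ ≤ N := commutator_le.2 fun x hx y hy => mem_sup_right
    ⟨_, PGroup.Frattini.commutatorElement_mem_frattini hVp ⟨x, hx⟩ ⟨y, hy⟩, rfl⟩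
  by_cases hNVe : V ≤ N
  · have htop : (V ⊓ T).subgroupOf V = ⊤ := by
      refine frattini_nongenerating (eq_top_iff.2 fun x _ => ?_)
      have h1 : (x : X) ∈ ((V ⊓ T).subgroupOf V ⊔ frattini V).map V.subtype := by
        rw [Subgroup.map_sup, subgroupOf_map_subtype, inf_eq_left.2 inf_le_left]
        exact hNVe x.2
      obtain ⟨y, hy, e⟩ := h1
      rwa [← V.subtype_injective e]
    exact (subgroupOf_eq_top.1 htop).trans inf_le_right
  exfalso
  have hfpf : Y ⊓ centralizer ({d} : Set X) = ⊥ := eq_bot_iff.2 fun y hy =>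
    mem_bot.2 (M.inter_lines hc hc1 hd hdc (hY (mem_inf.1 hy).1) (hYc (mem_inf.1 hy).1)
      (mem_inf.1 hy).2)
  refine OddOrder.FrobeniusFixed.inf_centralizer_not_le (W := V) (A := Y) (x := d) hNV hVN M.hq
    (M.exp d hd) (hVA hd) hYV (hnN (mem_inf.2 ⟨hVA hd, hdT⟩)) ((le_inf hYV hYT).trans hnN)
    (hYA hd) hfpf (coprime_of_pgroup hVp hYp hrs) ?_ ?_ ?_
  · have h := M.copr hV
    rw [M.card, Nat.coprime_pow_left_iff two_pos] at h
    exact h.symm
  · rwa [hcomm]
  · exact le_trans (le_inf inf_le_left hC) le_sup_left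

/-- An element of a line that centralises `C_V(d)`, `d` outside the line, centralises `V`. -/
theorem centralizes_of_fixed (M : Minimal G A q) {V Y : Subgroup X}
    (hV : V ≤ G) (hVA : A ≤ normalizer (V : Set X)) (hVp : IsPGroup r V)
    (hY : Y ≤ G) (hYA : A ≤ normalizer (Y : Set X)) (hYp : IsPGroup s Y) (hrs : r ≠ s)
    (hYV : Y ≤ normalizer (V : Set X))
    {c d : X} (hc : c ∈ A) (hc1 : c ≠ 1) (hd : d ∈ A) (hdc : d ∉ zpowers c)
    (hYc : Y ≤ centralizer ({c} : Set X))
    (h : V ⊓ centralizer ({d} : Set X) ≤ centralizer (Y : Set X)) :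
    Y ≤ centralizer (V : Set X) := by
  have hle : ⁅V, Y⁆ ≤ V := le_normalizer_iff_commutator_le_left.1 hYV
  have hcop := coprime_of_pgroup hYp hVp hrs.symm
  have hVs : Group.IsSolvable V := solvable_of_pgroup hVp
  have hidem : ⁅⁅V, Y⁆, Y⁆ = ⁅V, Y⁆ := commutator_commutator_self hYV hcop (.inr hVs)
  have hA1 : A ≤ normalizer (⁅V, Y⁆ : Subgroup X) := fun a ha => by
    rw [mem_normalizer_iff_map_conj_eq, map_commutator, mem_normalizer_iff_map_conj_eq.1 (hVA ha),
      mem_normalizer_iff_map_conj_eq.1 (hYA ha)]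
  have h1 : ⁅V, Y⁆ ≤ centralizer (Y : Set X) :=
    M.le_of_fixed_le (hle.trans hV) hA1 (hVp.to_le hle) hY hYA hYp hrs
      (normalizer_commutator_ge_right V Y) hc hc1 hd hdc hYc hidem (inv_centralizer hYA hd)
      (le_normalizer.trans (inv_centralizer le_rfl))
      ((inf_le_inf_right _ hle).trans h)
  have h2 : ⁅⁅V, Y⁆, Y⁆ = ⊥ := commutator_eq_bot_iff_le_centralizer.2 h1
  rw [hidem] at h2
  exact le_centralizer_iff.1 (commutator_eq_bot_iff_le_centralizer.1 h2)

/-- A group in a line acting nontrivially has fixed points in every other line. -/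
theorem fixed_ne_bot (M : Minimal G A q) {V Y : Subgroup X}
    (hV : V ≤ G) (hVA : A ≤ normalizer (V : Set X)) (hVp : IsPGroup r V)
    (hY : Y ≤ G) (hYA : A ≤ normalizer (Y : Set X)) (hYp : IsPGroup s Y) (hrs : r ≠ s)
    (hYV : Y ≤ normalizer (V : Set X))
    {c d : X} (hc : c ∈ A) (hc1 : c ≠ 1) (hd : d ∈ A) (hdc : d ∉ zpowers c)
    (hYc : Y ≤ centralizer ({c} : Set X)) (hn : ¬ Y ≤ centralizer (V : Set X)) :
    V ⊓ centralizer ({d} : Set X) ≠ ⊥ := fun h =>
  hn (M.centralizes_of_fixed hV hVA hVp hY hYA hYp hrs hYV hc hc1 hd hdc hYc (h ▸ bot_le))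

/-- The two-prime structure of a proper invariant subgroup: `S ∩ H` is a normal `s`-part times
the normaliser of `R ∩ H`. -/
theorem exists_core (M : Minimal G A q) {R S H : Subgroup X} (hrs : r ≠ s)
    (hR : IsInvSylow G A r R) (hS : IsInvSylow G A s S) (hH : H ≤ G) (hHne : H ≠ G)
    (hHA : A ≤ normalizer (H : Set X)) :
    ∃ D : Subgroup X, D ≤ S ⊓ H ∧ A ≤ normalizer (D : Set X) ∧
      R ⊓ H ≤ normalizer (D : Set X) ∧
      ∀ y ∈ S ⊓ H, ∃ d ∈ D, ∃ n ∈ S ⊓ H ⊓ normalizer ((R ⊓ H : Subgroup X) : Set X),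
        d * n = y := by
  classical
  have hHs := M.proper H hH hHne hHA
  obtain ⟨K, hK, hKA⟩ := exists_invariant_hall {r, s} hHA (M.copr hH) hHs
  have hKG : K ≤ G := hK.1.trans hH
  have hKs : Group.IsSolvable K := isSolvable_of_le hK.1 hHs
  -- the Sylow subgroups of `K` are those of `H`
  have hpart : ∀ (t : ℕ) [Fact t.Prime], t ∈ ({r, s} : Set ℕ) → ∀ T, IsInvSylow G A t T →
      T ⊓ H = T ⊓ K := fun t _ ht T hT => by
    refine (eq_of_le_of_card_ge (inf_le_inf_left _ hK.1) ?_).symm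
    rw [M.card_invSylow_inf hT hH hHA, M.card_invSylow_inf hT hKG hKA]
    refine Nat.pow_le_pow_right (Fact.out : t.Prime).pos ?_
    rw [← relIndex_bot_left, ← relIndex_mul_relIndex ⊥ K H bot_le hK.1,
      relIndex_bot_left, Nat.factorization_mul Nat.card_pos.ne'
      (ne_zero_of_dvd_ne_zero Nat.card_pos.ne' (relIndex_dvd_card K H)), Finsupp.add_apply,
      Nat.factorization_eq_zero_of_not_dvd (hK.2.2 t Fact.out ht), add_zero]
  rw [hpart r (by simp) R hR, hpart s (by simp) S hS]
  -- pass to the normaliser of `K`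
  set Γ := normalizer (K : Set X) with hΓ
  haveI hKn : (K.subgroupOf Γ).Normal :=
    (normal_subgroupOf_iff_le_normalizer le_normalizer).2 le_rfl
  have hset : Solvable.FPFOperators.OpSetup (K.subgroupOf Γ) (A.subgroupOf Γ) := by
    refine ⟨hKn, ?_, ?_, ?_, ?_⟩
    · haveI := hKs
      exact Group.isSolvable_of_surjective
        (f := (subgroupOfEquivOfLe (le_normalizer : K ≤ Γ)).symm.toMonoidHom)
        (MulEquiv.surjective _)
    · haveI := M.solvA
      exact Group.isSolvable_of_surjective (f := (subgroupOfEquivOfLe hKA).symm.toMonoidHom)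
        (MulEquiv.surjective _)
    · rw [Nat.card_congr (subgroupOfEquivOfLe hKA).toEquiv,
        Nat.card_congr (subgroupOfEquivOfLe (le_normalizer : K ≤ Γ)).toEquiv]
      exact M.copr hKG
    · intro y hy hfix
      have h1 : (y : X) ∈ G ⊓ centralizer (A : Set X) :=
        mem_inf.2 ⟨hKG hy, mem_centralizer_iff.2 fun a ha =>
          congrArg Subtype.val (hfix ⟨a, hKA ha⟩ ha)⟩
      rw [M.fix, mem_bot] at h1
      exact Subtype.ext h1
  have hnil := Solvable.FPFOperators.isNilpotent_top1 M.hq hset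
    (by
      haveI := M.comm
      refine isMulCommutative_iff.2 fun u v => Subtype.ext (Subtype.ext ?_)
      show ((u : Γ) : X) * ((v : Γ) : X) = ((v : Γ) : X) * ((u : Γ) : X)
      exact congrArg Subtype.val
        (mul_comm' (⟨((u : Γ) : X), u.2⟩ : A) ⟨((v : Γ) : X), v.2⟩))
    (fun a ha => Subtype.ext (M.exp _ ha))
    (by rw [Nat.card_congr (subgroupOfEquivOfLe hKA).toEquiv, M.card])
  set F₀ := Solvable.FPFOperators.fit (K.subgroupOf Γ) with hF₀
  set F : Subgroup X := F₀.map Γ.subtype with hF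
  have hFK : F ≤ K := by
    rintro _ ⟨x, hx, rfl⟩
    exact (Solvable.FPFOperators.fit_le _ hx : x ∈ K.subgroupOf Γ)
  have hFn : Group.IsNilpotent F := by
    haveI := Solvable.FPFOperators.isNilpotent_fit (K.subgroupOf Γ)
    exact Group.nilpotent_of_mulEquiv (F₀.equivMapOfInjective _ Γ.subtype_injective)
  have hFnorm : Γ ≤ normalizer (F : Set X) := by
    refine le_normalizer_iff.2 fun g hg x hx => ?_
    obtain ⟨y, hy, rfl⟩ := hx
    exact ⟨⟨g, hg⟩ * y * ⟨g, hg⟩⁻¹,
      (Solvable.FPFOperators.fit_normal (K.subgroupOf Γ)).conj_mem y hy _, rfl⟩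
  have hKF : K ≤ normalizer (F : Set X) := le_normalizer.trans hFnorm
  have hFA : A ≤ normalizer (F : Set X) := hKA.trans hFnorm
  -- the `s`-part of the Fitting subgroup
  set D := S ⊓ F with hD
  have hKD : K ≤ normalizer (D : Set X) := by
    obtain ⟨P, hP⟩ := exists_sylow_map_eq (K := F) (p := s) (inf_le_right : D ≤ F)
      (M.card_invSylow_inf hS (hFK.trans hKG) hFA)
    haveI := hFn
    have hPn : (P : Subgroup F).Normal := inferInstance
    haveI := Sylow.characteristic_of_normal P hPn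
    rw [hD, ← hP]
    exact hKF.trans (OddOrder.PStable.normalizer_le_normalizer_map F _)
  have hDS : D ≤ S ⊓ K := inf_le_inf_left _ hFK
  set R' := R ⊓ K with hR'
  have hR'p : IsPGroup r R' := hR.pgroup.to_le inf_le_left
  -- `F ≤ R' D`
  have hFle : F ≤ R' ⊔ D := by
    refine le_trans ?_ (sup_le_sup (inf_le_inf_left _ hFK : R ⊓ F ≤ R') le_rfl)
    refine (eq_of_le_of_card_ge (sup_le inf_le_right inf_le_right) ?_).ge
    refine Nat.le_of_dvd Nat.card_pos ?_
    rw [← Nat.factorization_le_iff_dvd Nat.card_pos.ne' Nat.card_pos.ne']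
    intro t
    by_cases ht : t.Prime ∧ t ∣ Nat.card F
    · haveI := Fact.mk ht.1
      rcases hK.2.1 t ht.1 (ht.2.trans (card_dvd_of_le hFK)) with rfl | rfl
      · refine (ht.1.pow_dvd_iff_le_factorization Nat.card_pos.ne').1 ?_
        rw [← M.card_invSylow_inf hR (hFK.trans hKG) hFA]
        exact card_dvd_of_le le_sup_left
      · refine (ht.1.pow_dvd_iff_le_factorization Nat.card_pos.ne').1 ?_
        rw [← M.card_invSylow_inf hS (hFK.trans hKG) hFA]
        exact card_dvd_of_le le_sup_right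
    · rcases not_and_or.1 ht with h | h
      · simp [Nat.factorization_eq_zero_of_not_prime _ h]
      · simp [Nat.factorization_eq_zero_of_not_dvd h]
  -- `R' D` is normal in `K`
  have hRD : K ≤ normalizer ((R' ⊔ D : Subgroup X) : Set X) := by
    set mk := QuotientGroup.mk' F₀ with hmk
    set T := Solvable.FPFOperators.top1 (K.subgroupOf Γ) with hT
    set f : K.subgroupOf Γ →* T :=
      (mk.subgroupMap (K.subgroupOf Γ)) with hf
    obtain ⟨P, hP⟩ := exists_sylow_map_eq (K := K) (p := r) (inf_le_right : R' ≤ K)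
      (M.card_invSylow_inf hR hKG hKA)
    let e : K ≃* K.subgroupOf Γ := (subgroupOfEquivOfLe (le_normalizer : K ≤ Γ)).symm
    have hsurj : Function.Surjective (f.comp e.toMonoidHom) :=
      (mk.subgroupMap_surjective _).comp e.surjective
    set P' := P.mapSurjective hsurj with hP'
    haveI := hnil
    have hP'n : (P' : Subgroup T).Normal := inferInstance
    refine le_normalizer_iff.2 fun k hk x hx => ?_
    have key : ∀ z ∈ R', k * z * k⁻¹ ∈ R' ⊔ D := fun z hz => by
      rw [hR', ← hP] at hz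
      obtain ⟨z', hz', rfl⟩ := hz
      have h1 : f.comp e.toMonoidHom z' ∈ (P' : Subgroup T) := mem_map_of_mem _ hz'
      have h2 := hP'n.conj_mem _ h1 (f.comp e.toMonoidHom ⟨k, hk⟩)
      rw [← map_inv, ← map_mul, ← map_mul] at h2
      obtain ⟨w, hw, hwe⟩ := h2
      have h3 : ((w : X))⁻¹ * (k * z' * k⁻¹) ∈ F := by
        have h4 := QuotientGroup.eq.1 (congrArg Subtype.val hwe)
        exact ⟨_, h4, rfl⟩
      have h5 := mul_mem (mem_sup_left (hP.le (mem_map_of_mem K.subtype hw) : (w : X) ∈ R'))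
        (hFle h3)
      simpa using h5
    have h6 : (R' ⊔ D).map (MulAut.conj k).toMonoidHom ≤ R' ⊔ D := by
      rw [Subgroup.map_sup]
      refine sup_le ?_ (le_trans ?_ le_sup_right)
      · rintro _ ⟨z, hz, rfl⟩; exact key z hz
      · rintro _ ⟨z, hz, rfl⟩; exact le_normalizer_iff.1 hKD k hk z hz
    exact h6 ⟨x, hx, rfl⟩
  -- Frattini
  refine ⟨D, hDS, inv_inf hS.inv hFA, inf_le_right.trans hKD, fun y hy => ?_⟩
  set L := R' ⊔ D with hL
  have hLK : L ≤ K := sup_le inf_le_right (inf_le_right.trans hFK)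
  have hR'A : A ≤ normalizer (R' : Set X) := inv_inf hR.inv hKA
  have hR'D : R' ≤ normalizer (D : Set X) := inf_le_right.trans hKD
  have hmap : R'.map (MulAut.conj y).toMonoidHom ≤ L := by
    rintro _ ⟨z, hz, rfl⟩
    exact le_normalizer_iff.1 hRD y (mem_inf.1 hy).2 _ (mem_sup_left hz)
  have hLA : A ≤ normalizer (L : Set X) := inv_sup hR'A (inv_inf hS.inv hFA)
  have hcardL : r ^ (Nat.card L).factorization r = Nat.card R' := by
    rw [← M.card_invSylow_inf hR (hLK.trans hKG) hLA]
    exact congrArg (fun U : Subgroup X => Nat.card U)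
      (le_antisymm (inf_le_inf_left _ hLK) (le_inf inf_le_left le_sup_left))
  obtain ⟨P₁, hP₁⟩ := exists_sylow_map_eq (K := L) (p := r) (le_sup_left : R' ≤ L) hcardL.symm
  obtain ⟨P₂, hP₂⟩ := exists_sylow_map_eq (K := L) (p := r) hmap
    (by rw [card_conj_map, hcardL])
  obtain ⟨l, hl⟩ := MulAction.exists_smul_eq L P₁ P₂
  have h7 : R'.map (MulAut.conj y).toMonoidHom = R'.map (MulAut.conj (l : X)).toMonoidHom := by
    rw [← hP₂, ← hl, map_smul_sylow, hP₁]
  have hl' : (l : X) ∈ D ⊔ R' := sup_comm R' D ▸ l.2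
  obtain ⟨d, hd, z, hz, hdz⟩ := (mem_sup_of_le_normalizer hR'D).1 hl'
  refine ⟨d, hd, d⁻¹ * y, mem_inf.2 ⟨mul_mem (inv_mem (hDS hd)) hy, ?_⟩, mul_inv_cancel_left d y⟩
  rw [mem_normalizer_iff_map_conj_eq]
  have h8 : R'.map (MulAut.conj z).toMonoidHom = R' :=
    mem_normalizer_iff_map_conj_eq.1 (le_normalizer hz)
  show R'.map (MulAut.conj (d⁻¹ * y)).toMonoidHom = R'
  rw [← conj_map_map R' d⁻¹ y, h7, conj_map_map, ← hdz, inv_mul_cancel_left]
  exact h8

end Minimal

end CfsgLib.Coprime.RankTwoAbelian
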