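import Cfsg.Agent.Lib.Coprime.RankTwoAbelian.Final
import Cfsg.Agent.Lib.Solvable.SylowSystem
import Mathlib

/-!
# A group of order `q ^ 2` acting coprimely with abelian centralisers forces solubility

In a minimal counterexample the unique invariant Sylow subgroups permute in pairs.
-/

set_option autoImplicit false
set_option linter.unusedSectionVars false
set_option linter.style.haveILetI false

namespace CfsgLib.Coprime.RankTwoAbelian

open Subgroup
open scoped Pointwise commutatorElement

universe u

section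

variable {X : Type u} [Group X] [Finite X] {G A : Subgroup X} {q : ℕ}

/-- The invariant Sylow subgroups permute. -/
theorem Minimal.permute (M : Minimal G A q) {r s : ℕ} [Fact r.Prime] [Fact s.Prime] (hrs : r ≠ s)
    {R S : Subgroup X} (hR : IsInvSylow G A r R) (hS : IsInvSylow G A s S) :
    (R : Set X) * (S : Set X) = (S : Set X) * (R : Set X) := by
  obtain ⟨H, hHG, hHne, hHA, hRH, hSH⟩ : ∃ H : Subgroup X, H ≤ G ∧ H ≠ G ∧
      A ≤ normalizer (H : Set X) ∧ R ≤ H ∧ S ≤ H := by
    by_contra hcon
    exact (Pair.false M ⟨hrs, hR, hS, fun H h1 h2 h3 h4 h5 => hcon ⟨H, h1, h2, h3, h4, h5⟩⟩)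
  obtain ⟨K, hK, hKA⟩ := exists_invariant_hall {r, s} hHA (M.copr hHG)
    (M.proper H hHG hHne hHA)
  have hKG : K ≤ G := hK.1.trans hHG
  have hsub : ∀ (t : ℕ) [Fact t.Prime], t ∈ ({r, s} : Set ℕ) → ∀ T, IsInvSylow G A t T → T ≤ H →
      T ≤ K := fun t _ ht T hT hTH => by
    have : T ⊓ K = T := by
      refine eq_of_le_of_card_ge inf_le_left ?_
      have h1 := M.card_invSylow_inf hT hHG hHA
      rw [inf_eq_left.2 hTH] at h1
      rw [h1, M.card_invSylow_inf hT hKG hKA]
      refine Nat.pow_le_pow_right (Fact.out : t.Prime).pos ?_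
      rw [← relIndex_bot_left, ← relIndex_mul_relIndex ⊥ K H bot_le hK.1,
        relIndex_bot_left, Nat.factorization_mul Nat.card_pos.ne'
        (ne_zero_of_dvd_ne_zero Nat.card_pos.ne' (relIndex_dvd_card K H)), Finsupp.add_apply,
        Nat.factorization_eq_zero_of_not_dvd (hK.2.2 t Fact.out ht), add_zero]
    exact inf_eq_left.1 this
  have hRK := hsub r (by simp) R hR hRH
  have hSK := hsub s (by simp) S hS hSH
  have hcard : Nat.card K ≤ Nat.card R * Nat.card S := by
    refine Nat.le_of_dvd (Nat.mul_pos Nat.card_pos Nat.card_pos) ?_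
    rw [← Nat.factorization_le_iff_dvd Nat.card_pos.ne' (Nat.mul_pos Nat.card_pos Nat.card_pos).ne']
    intro t
    by_cases ht : t.Prime ∧ t ∣ Nat.card K
    · haveI := Fact.mk ht.1
      refine (ht.1.pow_dvd_iff_le_factorization (Nat.mul_pos Nat.card_pos Nat.card_pos).ne').1 ?_
      rcases hK.2.1 t ht.1 ht.2 with rfl | rfl
      · rw [← M.card_invSylow_inf hR hKG hKA]
        exact (card_dvd_of_le inf_le_left).trans (dvd_mul_right _ _)
      · rw [← M.card_invSylow_inf hS hKG hKA]
        exact (card_dvd_of_le inf_le_left).trans (dvd_mul_left _ _)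
    · rcases not_and_or.1 ht with h | h
      · simp [Nat.factorization_eq_zero_of_not_prime _ h]
      · simp [Nat.factorization_eq_zero_of_not_dvd h]
  have hd : R ⊓ S = ⊥ := inf_eq_bot_of_pgroup hR.pgroup hS.pgroup hrs
  rw [Solvable.HallSystem.coe_mul_eq_of_card_le hRK hSK (by rwa [hd, card_bot, mul_one]),
    Solvable.HallSystem.coe_mul_eq_of_card_le hSK hRK
      (by rw [inf_comm, hd, card_bot, mul_one, mul_comm (Nat.card S)]; exact hcard)]

/-- There is no minimal counterexample. -/
theorem Minimal.false (M : Minimal G A q) : False := by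
  classical
  have hex : ∀ p : Nat.Primes, ∃ P : Sylow (p : ℕ) G,
      IsInvSylow G A p ((P : Subgroup G).map G.subtype) := fun p => by
    haveI := Fact.mk p.2
    obtain ⟨R, hR⟩ := M.exists_invSylow p
    obtain ⟨P, hP⟩ := exists_sylow_map_eq hR.le hR.card
    exact ⟨P, hP ▸ hR⟩
  choose P hP using hex
  refine M.nsolv (Solvable.SylowSystem.isSolvable P fun p t => ?_)
  by_cases hpt : p = t
  · rw [hpt]
  haveI := Fact.mk p.2
  haveI := Fact.mk t.2
  have h := M.permute (fun e => hpt (Subtype.ext e)) (hP p) (hP t)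
  rw [coe_map, coe_map, ← Set.image_mul, ← Set.image_mul] at h
  exact Set.image_injective.2 G.subtype_injective h

end

/-- The induction. -/
theorem isSolvable_aux : ∀ (n : ℕ) {X : Type u} [Group X] [Finite X] (G A : Subgroup X) (q : ℕ),
    Nat.card G = n → Data G A q → Group.IsSolvable G := by
  intro n
  induction n using Nat.strong_induction_on with
  | _ n ih => ?_
  intro X _ _ G A q hn D
  by_contra hns
  have hproper : ∀ H : Subgroup X, H ≤ G → H ≠ G → A ≤ normalizer (H : Set X) →
      Group.IsSolvable H := fun H hH hHne hHA =>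
    ih _ (hn ▸ lt_of_not_ge fun h => hHne (eq_of_le_of_card_ge hH h)) H A q rfl
      ⟨D.hq, D.card, D.comm, D.exp, hHA, coprime_of_le D.cop le_rfl hH, fun a ha ha1 x hx y hy =>
        D.ab a ha ha1 x (inf_le_inf_right _ hH hx) y (inf_le_inf_right _ hH hy)⟩
  -- no invariant normal subgroups
  have hsimple : ∀ N : Subgroup X, N ≤ G → G ≤ normalizer (N : Set X) →
      A ≤ normalizer (N : Set X) → N = ⊥ ∨ N = G := by
    intro N hNG hGN hAN
    by_contra hcon
    push Not at hcon
    have hNs := hproper N hNG hcon.2 hAN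
    set U := normalizer (N : Set X) with hU
    haveI : (N.subgroupOf U).Normal :=
      (normal_subgroupOf_iff_le_normalizer le_normalizer).2 le_rfl
    set f := QuotientGroup.mk' (N.subgroupOf U) with hf
    set G' := (G.subgroupOf U).map f with hG'
    set A' := (A.subgroupOf U).map f with hA'
    have hker : ∀ u : U, f u = 1 ↔ (u : X) ∈ N := fun u => QuotientGroup.eq_one_iff u
    have hGcard : Nat.card G' * Nat.card N = Nat.card G := by
      have h := Subgroup.card_mul_index ((f.subgroupMap (G.subgroupOf U)).ker)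
      rw [Subgroup.index_ker] at h
      rw [← Nat.card_congr (subgroupOfEquivOfLe hGN).toEquiv, ← h, mul_comm]
      congr 1
      · rw [Nat.card_congr (Equiv.ofBijective
          (fun x : (f.subgroupMap (G.subgroupOf U)).ker => (⟨((x : G.subgroupOf U) : U).1,
            (hker _).1 (congrArg Subtype.val x.2)⟩ : N)) ⟨fun x y h => ?_, fun x => ?_⟩)]
        · exact Subtype.ext (Subtype.ext (Subtype.ext (congrArg (fun z : N => (z : X)) h)))
        · exact ⟨⟨⟨⟨x, le_normalizer x.2⟩, hNG x.2⟩, Subtype.ext ((hker _).2 x.2)⟩, rfl⟩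
      · rw [MonoidHom.range_eq_top.2 (f.subgroupMap_surjective _)]
        exact (Nat.card_congr Subgroup.topEquiv.toEquiv).symm
    have hG'lt : Nat.card G' < n := by
      rw [← hn, ← hGcard]
      refine lt_mul_of_one_lt_right Nat.card_pos (lt_of_le_of_ne Nat.card_pos fun e => hcon.1 ?_)
      exact card_eq_one.1 e.symm
    have hAinj : Function.Injective (f.comp (inclusion hAN)) := by
      rw [injective_iff_map_eq_one]
      intro a ha
      have h1 : (a : X) ∈ A ⊓ N := mem_inf.2 ⟨a.2, (hker _).1 ha⟩
      rw [(disjoint_of_coprime_natCard (coprime_of_le D.cop le_rfl hNG)).eq_bot, mem_bot] at h1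
      exact Subtype.ext h1
    have hA'card : Nat.card A' = Nat.card A := by
      have : A' = (f.comp (inclusion hAN)).range := by
        ext x
        constructor
        · rintro ⟨u, hu, rfl⟩; exact ⟨⟨u, hu⟩, rfl⟩
        · rintro ⟨a, rfl⟩; exact ⟨⟨a, hAN a.2⟩, a.2, rfl⟩
      rw [this]
      exact (Nat.card_congr (MonoidHom.ofInjective hAinj).toEquiv).symm
    have hG's : Group.IsSolvable G' := by
      refine ih _ hG'lt G' A' q rfl ⟨D.hq, hA'card.trans D.card, ?_, ?_, ?_, ?_, ?_⟩
      · refine isMulCommutative_iff.2 fun x y => ?_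
        obtain ⟨_, a, ha, rfl⟩ := x
        obtain ⟨_, b, hb, rfl⟩ := y
        haveI := D.comm
        refine Subtype.ext ?_
        show f a * f b = f b * f a
        rw [← map_mul, ← map_mul]
        refine congrArg f (Subtype.ext ?_)
        show (a : X) * (b : X) = (b : X) * (a : X)
        exact congrArg Subtype.val (mul_comm' (⟨(a : X), ha⟩ : A) ⟨(b : X), hb⟩)
      · rintro _ ⟨a, ha, rfl⟩
        rw [← map_pow, show a ^ q = 1 from Subtype.ext (D.exp _ ha), map_one]
      · rintro _ ⟨a, ha, rfl⟩
        exact le_normalizer_map (H := G.subgroupOf U) f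
          ⟨a, le_normalizer_comap U.subtype (D.norm ha), rfl⟩
      · rw [hA'card]
        exact D.cop.coprime_dvd_right ((Subgroup.card_map_dvd _ f).trans
          (Nat.card_congr (subgroupOfEquivOfLe hGN).toEquiv).dvd)
      · rintro _ ⟨a, ha, rfl⟩ ha1
        have lift : ∀ x ∈ G' ⊓ centralizer ({f a} : Set (U ⧸ N.subgroupOf U)),
            ∃ c : U, (c : X) ∈ G ⊓ centralizer ({(a : X)} : Set X) ∧ f c = x := by
          intro x hx
          obtain ⟨⟨g, hg, rfl⟩, hgc⟩ := mem_inf.1 hx
          have hgc' : Commute (f g) (f a) := mem_centralizer_singleton_iff.1 hgc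
          have hcom : ∀ e ∈ zpowers (a : X), ⁅e, (g : X)⁆ ∈ N := by
            intro e he
            obtain ⟨i, rfl⟩ := mem_zpowers_iff.1 he
            have h1 : f ⁅a ^ i, g⁆ = 1 := by
              rw [map_commutatorElement, map_zpow, commutatorElement_eq_one_iff_commute]
              exact hgc'.symm.zpow_left i
            simpa [commutatorElement_def] using (hker _).1 h1
          obtain ⟨c, hc, hck⟩ := exists_centralizer_inv_mul_mem (A := zpowers (a : X)) (K := G)
            (zpowers_le.2 (hAN ha)) hNG hGN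
            (coprime_of_le D.cop (zpowers_le.2 ha) hNG)
            (.inl (isSolvable_zpowers _)) (show (g : X) ∈ G from hg) hcom
          refine ⟨⟨c, hGN (mem_inf.1 hc).1⟩, mem_inf.2 ⟨(mem_inf.1 hc).1, ?_⟩, ?_⟩
          · exact mem_centralizer_singleton_iff.2
              (mem_centralizer_iff.1 (mem_inf.1 hc).2 _ (mem_zpowers _)).symm
          · exact (QuotientGroup.eq.2 (show g⁻¹ * ⟨c, hGN (mem_inf.1 hc).1⟩ ∈ N.subgroupOf U
              from hck)).symm
        intro x hx y hy
        obtain ⟨c, hc, rfl⟩ := lift x hx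
        obtain ⟨c', hc', rfl⟩ := lift y hy
        rw [← map_mul, ← map_mul]
        refine congrArg f (Subtype.ext ?_)
        refine D.ab a ha (fun e => ha1 ?_) _ hc _ hc'
        rw [show a = 1 from Subtype.ext e, map_one]
    apply hns
    haveI := hNs
    haveI := hG's
    let e : G →* G' := (f.subgroupMap (G.subgroupOf U)).comp
      (subgroupOfEquivOfLe hGN).symm.toMonoidHom
    refine Group.isSolvable_of_ker_le_range (Subgroup.inclusion hNG) e fun x hx => ?_
    have hxN : (x : X) ∈ N := (hker _).1 (congrArg Subtype.val hx)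
    exact ⟨⟨x, hxN⟩, rfl⟩
  -- no common fixed points
  have hfix : G ⊓ centralizer (A : Set X) = ⊥ := by
    rcases hsimple (G ⊓ centralizer (G : Set X)) inf_le_left
      ((le_inf le_normalizer (inv_centralizer le_normalizer)).trans inf_normalizer_le_normalizer_inf)
      (inv_inf D.norm (inv_centralizer D.norm)) with e | e
    · refine le_bot_iff.1 (e ▸ le_inf inf_le_left ?_)
      haveI := D.comm
      have hgen := iSup_centralizer_singleton D.not_cyclic D.norm D.cop
      refine le_centralizer_iff.1 ?_
      conv_lhs => rw [← hgen]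
      refine iSup₂_le fun a ha x hx => mem_centralizer_iff.2 fun y hy => ?_
      exact D.ab a ha.1 ha.2 y (mem_inf.2 ⟨(mem_inf.1 hy).1,
        centralizer_le (Set.singleton_subset_iff.2 ha.1) (mem_inf.1 hy).2⟩) x hx
    · exact absurd (Group.isSolvable_of_comm fun a b : G => Subtype.ext
        ((mem_centralizer_iff.1 (inf_eq_left.1 e b.2) a a.2))) hns
  exact Minimal.false ⟨D, hfix, hproper, hsimple, hns⟩

/-- **Main theorem.** -/
theorem isSolvable {A G : Type*} [Group A] [Finite A] [Group G] [Finite G]
    [MulDistribMulAction A G] (q : ℕ) (hq : q.Prime) (hA : Nat.card A = q ^ 2) (hnc : ¬ IsCyclic A)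
    (hcop : ¬ q ∣ Nat.card G)
    (h : ∀ a : A, a ≠ 1 → IsMulCommutative ↥(FixedPoints.subgroup (Subgroup.zpowers a) G)) :
    Group.IsSolvable G := by
  classical
  haveI := Fact.mk hq
  set φ := MulDistribMulAction.toMulAut A G with hφ
  haveI : Finite (G ⋊[φ] A) := Finite.of_equiv _ SemidirectProduct.equivProd.symm
  set Gs := (SemidirectProduct.inl : G →* G ⋊[φ] A).range with hGs
  set As := (SemidirectProduct.inr : A →* G ⋊[φ] A).range with hAs
  have hAcard : Nat.card As = Nat.card A :=
    (Nat.card_congr (MonoidHom.ofInjective SemidirectProduct.inr_injective).toEquiv).symm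
  have hGcard : Nat.card Gs = Nat.card G :=
    (Nat.card_congr (MonoidHom.ofInjective SemidirectProduct.inl_injective).toEquiv).symm
  have hAcomm : ∀ a b : A, a * b = b * a := (IsPGroup.isMulCommutative_of_card_eq_prime_sq hA).1.comm
  have hexp : ∀ a : A, a ^ q = 1 := fun a => by
    obtain ⟨k, hk, hka⟩ := (Nat.dvd_prime_pow hq).1 (hA ▸ orderOf_dvd_natCard a)
    have hk1 : k ≤ 1 := by
      by_contra hk2
      exact hnc (isCyclic_of_orderOf_eq_card a (by rw [hka, hA, show k = 2 by omega]))
    refine orderOf_dvd_iff_pow_eq_one.1 ?_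
    rw [hka]
    simpa using pow_dvd_pow q hk1
  have D : Data Gs As q := by
    refine ⟨hq, hAcard.trans hA, ?_, ?_, ?_, ?_, ?_⟩
    · refine isMulCommutative_iff.2 fun x y => ?_
      obtain ⟨_, a, rfl⟩ := x
      obtain ⟨_, b, rfl⟩ := y
      refine Subtype.ext ?_
      show (SemidirectProduct.inr a : G ⋊[φ] A) * SemidirectProduct.inr b =
        SemidirectProduct.inr b * SemidirectProduct.inr a
      rw [← map_mul, hAcomm, map_mul]
    · rintro _ ⟨a, rfl⟩
      rw [← map_pow, hexp, map_one]
    · refine le_normalizer_iff.2 ?_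
      rintro _ ⟨a, rfl⟩ _ ⟨g, rfl⟩
      exact ⟨φ a g, by rw [SemidirectProduct.inl_aut, map_inv]⟩
    · rw [hAcard, hGcard, hA]
      exact Nat.Coprime.pow_left 2 (hq.coprime_iff_not_dvd.2 hcop)
    · rintro _ ⟨a, rfl⟩ ha1 x hx y hy
      obtain ⟨⟨g, rfl⟩, hgc⟩ := mem_inf.1 hx
      obtain ⟨⟨g', rfl⟩, hgc'⟩ := mem_inf.1 hy
      have ha : a ≠ 1 := fun e => ha1 (by rw [e, map_one])
      have key : ∀ g : G, SemidirectProduct.inl g ∈
          centralizer ({SemidirectProduct.inr a} : Set (G ⋊[φ] A)) →
          g ∈ FixedPoints.subgroup (zpowers a) G := by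
        intro g hg
        have h1 : φ a g = g := by
          refine SemidirectProduct.inl_injective (φ := φ) ?_
          rw [SemidirectProduct.inl_aut, map_inv,
            ← mem_centralizer_singleton_iff.1 hg, mul_inv_cancel_right]
        have h2 : zpowers a ≤ MulAction.stabilizer A g := zpowers_le.2 h1
        exact fun c => h2 c.2
      rw [← map_mul, ← map_mul]
      haveI := h a ha
      exact congrArg _ (congrArg Subtype.val
        (mul_comm' (⟨g, key g hgc⟩ : FixedPoints.subgroup (zpowers a) G) ⟨g', key g' hgc'⟩))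
  haveI := isSolvable_aux _ Gs As q rfl D
  exact Group.isSolvable_of_surjective
    (f := (MonoidHom.ofInjective SemidirectProduct.inl_injective : G ≃* Gs).symm.toMonoidHom)
    (MulEquiv.surjective _)

end CfsgLib.Coprime.RankTwoAbelian
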