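import Cfsg.Agent.Lib.Coprime.RankTwoAbelian.Lines
import Mathlib

/-!
# A pair of non-permuting invariant Sylow subgroups normalises nothing of each other

For invariant Sylow subgroups `R`, `S` lying in no common proper invariant subgroup, the largest
invariant subgroup of `S` normalised by `R` is trivial.
-/

set_option autoImplicit false
set_option linter.unusedSectionVars false
set_option linter.style.haveILetI false

namespace CfsgLib.Coprime.RankTwoAbelian

open Subgroup
open scoped Pointwise commutatorElement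

variable {X : Type*} [Group X]

/-- The largest invariant subgroup of `S` normalised by `R`. -/
def maxNorm (A R S : Subgroup X) : Subgroup X :=
  ⨆ U : {U : Subgroup X // U ≤ S ∧ A ≤ normalizer (U : Set X) ∧ R ≤ normalizer (U : Set X)},
    (U : Subgroup X)

theorem maxNorm_le (A R S : Subgroup X) : maxNorm A R S ≤ S := iSup_le fun U => U.2.1

theorem maxNorm_inv (A R S : Subgroup X) : A ≤ normalizer (maxNorm A R S : Set X) :=
  inv_iSup fun U => U.2.2.1

theorem maxNorm_normalized (A R S : Subgroup X) : R ≤ normalizer (maxNorm A R S : Set X) :=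
  inv_iSup fun U => U.2.2.2

theorem le_maxNorm {A R S U : Subgroup X} (h1 : U ≤ S) (h2 : A ≤ normalizer (U : Set X))
    (h3 : R ≤ normalizer (U : Set X)) : U ≤ maxNorm A R S :=
  le_iSup (fun V : {U : Subgroup X // U ≤ S ∧ A ≤ normalizer (U : Set X) ∧
    R ≤ normalizer (U : Set X)} => (V : Subgroup X)) ⟨U, h1, h2, h3⟩

/-- The subgroup generated by the `P`-conjugates of `W`. -/
def conjClosure (P W : Subgroup X) : Subgroup X :=
  ⨆ p : P, W.map (MulAut.conj (p : X)).toMonoidHom

theorem le_conjClosure (P W : Subgroup X) : W ≤ conjClosure P W := fun x hx =>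
  mem_iSup_of_mem (1 : P) ⟨x, hx, by simp⟩

theorem conjClosure_le {P W T : Subgroup X} (hW : W ≤ T) (hP : P ≤ normalizer (T : Set X)) :
    conjClosure P W ≤ T := iSup_le fun p => by
  rintro _ ⟨x, hx, rfl⟩
  exact le_normalizer_iff.1 hP p p.2 x (hW hx)

theorem conj_mem_conjClosure {P W : Subgroup X} {p x : X} (hp : p ∈ P) (hx : x ∈ W) :
    p * x * p⁻¹ ∈ conjClosure P W := mem_iSup_of_mem (⟨p, hp⟩ : P) ⟨x, hx, by simp⟩

theorem normalizer_conjClosure_self (P W : Subgroup X) :
    P ≤ normalizer (conjClosure P W : Set X) := by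
  have : ∀ a ∈ P, (conjClosure P W).map (MulAut.conj a).toMonoidHom ≤ conjClosure P W :=
    fun a ha => by
      rw [conjClosure, Subgroup.map_iSup]
      refine iSup_le fun p => ?_
      rw [conj_map_map]
      exact le_iSup (fun p : P => W.map (MulAut.conj (p : X)).toMonoidHom) ⟨a * p, mul_mem ha p.2⟩
  exact le_normalizer_iff.2 fun a ha x hx => this a ha ⟨x, hx, rfl⟩

theorem le_normalizer_conjClosure {P W H : Subgroup X} (hW : H ≤ normalizer (W : Set X))
    (hP : H ≤ normalizer (P : Set X)) : H ≤ normalizer (conjClosure P W : Set X) := by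
  have : ∀ a ∈ H, (conjClosure P W).map (MulAut.conj a).toMonoidHom ≤ conjClosure P W :=
    fun a ha => by
      rw [conjClosure, Subgroup.map_iSup]
      refine iSup_le fun p => ?_
      rintro _ ⟨_, ⟨w, hw, rfl⟩, rfl⟩
      refine mem_iSup_of_mem (⟨a * p * a⁻¹, le_normalizer_iff.1 hP a ha p p.2⟩ : P)
        ⟨a * w * a⁻¹, le_normalizer_iff.1 hW a ha w hw, ?_⟩
      simp [mul_assoc]
  exact le_normalizer_iff.2 fun a ha x hx => this a ha ⟨x, hx, rfl⟩

theorem le_normalizer_conjClosure' {P W H : Subgroup X} (hW : H ≤ normalizer (W : Set X))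
    (hH : P ≤ normalizer (H : Set X)) : H ≤ normalizer (conjClosure P W : Set X) := by
  refine inv_iSup fun p => le_normalizer_iff.2 fun a ha x hx => ?_
  obtain ⟨w, hw, rfl⟩ := hx
  have h1 : (p : X)⁻¹ * a * p ∈ H := by
    simpa using le_normalizer_iff.1 hH _ (inv_mem p.2) a ha
  exact ⟨_, le_normalizer_iff.1 hW _ h1 w hw, by simp [mul_assoc]⟩

variable [Finite X] {G A : Subgroup X} {q r s : ℕ} [Fact r.Prime] [Fact s.Prime]

/-- Two invariant Sylow subgroups in no common proper invariant subgroup. -/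
structure Pair (G A : Subgroup X) (r s : ℕ) (R S : Subgroup X) : Prop where
  ne : r ≠ s
  left : IsInvSylow G A r R
  right : IsInvSylow G A s S
  no_common : ∀ H : Subgroup X, H ≤ G → H ≠ G → A ≤ normalizer (H : Set X) → R ≤ H → S ≤ H → False

namespace Pair

variable {R S : Subgroup X}

theorem symm (P : Pair G A r s R S) : Pair G A s r S R :=
  ⟨P.ne.symm, P.right, P.left, fun H h1 h2 h3 h4 h5 => P.no_common H h1 h2 h3 h5 h4⟩

theorem left_ne_bot (M : Minimal G A q) (P : Pair G A r s R S) : R ≠ ⊥ := fun h => by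
  subst h
  by_cases hS : S = ⊥
  · subst hS
    refine P.no_common ⊥ bot_le (fun e => M.nsolv (e ▸ solvable_of_pgroup P.right.pgroup))
      P.right.inv bot_le bot_le
  · exact P.no_common _ inf_le_left
      (M.normalizer_ne P.right.le P.right.inv hS (solvable_of_pgroup P.right.pgroup))
      (inv_inf M.norm (inv_normalizer P.right.inv)) bot_le (le_inf P.right.le le_normalizer)

/-- Elements normalising the two Sylow subgroups commute. -/
theorem commute_norm (P : Pair G A r s R S) {x y : X} (hx : x ∈ R) (hxS : x ∈ normalizer (S : Set X))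
    (hy : y ∈ S) (hyR : y ∈ normalizer (R : Set X)) : x * y = y * x := by
  have h1 : x * y * x⁻¹ * y⁻¹ ∈ R ⊓ S := mem_inf.2 ⟨by
      have := mul_mem hx ((mem_normalizer_iff.1 hyR x⁻¹).1 (inv_mem hx))
      simpa [mul_assoc] using this, mul_mem ((mem_normalizer_iff.1 hxS y).1 hy) (inv_mem hy)⟩
  rw [inf_eq_bot_of_pgroup P.left.pgroup P.right.pgroup P.ne, mem_bot, mul_inv_eq_one,
    mul_inv_eq_iff_eq_mul] at h1
  exact h1

theorem centralizer_le_max (P : Pair G A r s R S) :
    S ⊓ centralizer (R : Set X) ≤ maxNorm A R S :=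
  le_maxNorm inf_le_left (inv_inf P.right.inv (inv_centralizer P.left.inv))
    ((le_centralizer_iff.1 inf_le_right).trans (centralizer_le_normalizer _))

theorem max_pgroup (P : Pair G A r s R S) : IsPGroup s (maxNorm A R S) :=
  P.right.pgroup.to_le (maxNorm_le _ _ _)

theorem norm_le_normalizer_max (P : Pair G A r s R S) :
    S ⊓ normalizer (R : Set X) ≤ normalizer (maxNorm A R S : Set X) := by
  set W := maxNorm A R S
  set Y := S ⊓ normalizer (R : Set X)
  have h : conjClosure Y W ≤ W := le_maxNorm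
    (conjClosure_le (maxNorm_le _ _ _) (inf_le_left.trans le_normalizer))
    (le_normalizer_conjClosure (maxNorm_inv _ _ _) (inv_inf P.right.inv (inv_normalizer P.left.inv)))
    (le_normalizer_conjClosure' (maxNorm_normalized _ _ _) inf_le_right)
  exact le_normalizer_iff.2 fun y hy x hx => h (conj_mem_conjClosure hy hx)

/-- The normaliser of `W` in `S` is `W` times the normaliser of `R`. -/
theorem normalizer_max (M : Minimal G A q) (P : Pair G A r s R S) (hW : maxNorm A R S ≠ ⊥)
    {y : X} (hy : y ∈ S ⊓ normalizer (maxNorm A R S : Set X)) :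
    ∃ w ∈ maxNorm A R S, ∃ n ∈ S ⊓ normalizer (R : Set X), w * n = y := by
  set W := maxNorm A R S with hWdef
  have hWG : W ≤ G := (maxNorm_le _ _ _).trans P.right.le
  set H := G ⊓ normalizer (W : Set X) with hH
  have hRH : R ⊓ H = R := inf_eq_left.2 (le_inf P.left.le (maxNorm_normalized _ _ _))
  obtain ⟨D, hD, hDA, hDR, hdec⟩ := M.exists_core P.ne P.left P.right (inf_le_left : H ≤ G)
    (M.normalizer_ne hWG (maxNorm_inv _ _ _) hW (solvable_of_pgroup P.max_pgroup))
    (inv_inf M.norm (inv_normalizer (maxNorm_inv _ _ _)))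
  rw [hRH] at hDR hdec
  obtain ⟨d, hd, n, hn, rfl⟩ := hdec y (mem_inf.2 ⟨(mem_inf.1 hy).1,
    mem_inf.2 ⟨P.right.le (mem_inf.1 hy).1, (mem_inf.1 hy).2⟩⟩)
  exact ⟨d, le_maxNorm (hD.trans inf_le_left) hDA hDR hd, n,
    ⟨(mem_inf.1 (mem_inf.1 hn).1).1, (mem_inf.1 hn).2⟩, rfl⟩

/-- A line meeting the centre of `S`. -/
theorem exists_central_line (M : Minimal G A q) (P : Pair G A r s R S) :
    ∃ b ∈ A, b ≠ 1 ∧ S ⊓ centralizer (S : Set X) ⊓ centralizer ({b} : Set X) ≠ ⊥ := by
  refine M.exists_line (inf_le_left.trans P.right.le)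
    (inv_inf P.right.inv (inv_centralizer P.right.inv)) fun h => ?_
  haveI : Nontrivial S := (nontrivial_iff_ne_bot S).2 (P.symm.left_ne_bot M)
  haveI := P.right.pgroup.center_nontrivial
  obtain ⟨z, hz⟩ := exists_ne (1 : center S)
  have hmem : ((z : S) : X) ∈ S ⊓ centralizer (S : Set X) := mem_inf.2 ⟨(z : S).2,
    mem_centralizer_iff.2 fun y hy => congrArg Subtype.val (mem_center_iff.1 z.2 ⟨y, hy⟩)⟩
  rw [h, mem_bot] at hmem
  exact hz (Subtype.ext (Subtype.ext hmem))

theorem line_decomp (M : Minimal G A q) (P : Pair G A r s R S) {b : X} (hb : b ∈ A) (hb1 : b ≠ 1)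
    (hZ : S ⊓ centralizer (S : Set X) ⊓ centralizer ({b} : Set X) ≠ ⊥) {y : X}
    (hy : y ∈ R ⊓ centralizer ({b} : Set X)) :
    ∃ u ∈ maxNorm A S R, ∃ n ∈ R ⊓ normalizer (S : Set X), u * n = y := by
  set Z := S ⊓ centralizer (S : Set X) ⊓ centralizer ({b} : Set X) with hZdef
  have hZS : Z ≤ S := inf_le_left.trans inf_le_left
  have hZA : A ≤ normalizer (Z : Set X) :=
    inv_inf (inv_inf P.right.inv (inv_centralizer P.right.inv)) (inv_singleton hb M.comm)
  set H := G ⊓ centralizer (Z : Set X) with hH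
  have hSH : S ⊓ H = S := inf_eq_left.2
    (le_inf P.right.le (le_centralizer_iff.1 (inf_le_left.trans inf_le_right)))
  obtain ⟨D, hD, hDA, hDS, hdec⟩ := M.exists_core P.ne.symm P.right P.left (inf_le_left : H ≤ G)
    (M.centralizer_ne (hZS.trans P.right.le) hZA hZ
      (solvable_of_pgroup (P.right.pgroup.to_le hZS)))
    (inv_inf M.norm (inv_centralizer hZA))
  rw [hSH] at hDS hdec
  have hyH : y ∈ H := mem_inf.2 ⟨P.left.le (mem_inf.1 hy).1, mem_centralizer_iff.2 fun z hz =>
    M.ab b hb hb1 z (mem_inf.2 ⟨P.right.le (hZS hz), (mem_inf.1 hz).2⟩) y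
      (mem_inf.2 ⟨P.left.le (mem_inf.1 hy).1, (mem_inf.1 hy).2⟩)⟩
  obtain ⟨d, hd, n, hn, rfl⟩ := hdec y (mem_inf.2 ⟨(mem_inf.1 hy).1, hyH⟩)
  exact ⟨d, le_maxNorm (hD.trans inf_le_left) hDA hDS hd, n,
    ⟨(mem_inf.1 (mem_inf.1 hn).1).1, (mem_inf.1 hn).2⟩, rfl⟩

theorem line_le_normalizer (M : Minimal G A q) (P : Pair G A r s R S) (hU : maxNorm A S R = ⊥)
    {b : X} (hb : b ∈ A) (hb1 : b ≠ 1)
    (hZ : S ⊓ centralizer (S : Set X) ⊓ centralizer ({b} : Set X) ≠ ⊥) :
    R ⊓ centralizer ({b} : Set X) ≤ normalizer (S : Set X) := fun y hy => by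
  obtain ⟨u, hu, n, hn, rfl⟩ := P.line_decomp M hb hb1 hZ hy
  rw [hU, mem_bot] at hu
  rw [hu, one_mul]
  exact (mem_inf.1 hn).2

/-- Outside the line of `b` the normaliser of `R` in `S` lies in `W`. -/
theorem norm_line_le_max (M : Minimal G A q) (P : Pair G A r s R S) (hU : maxNorm A S R = ⊥)
    {b : X} (hb : b ∈ A) (hb1 : b ≠ 1)
    (hZ : S ⊓ centralizer (S : Set X) ⊓ centralizer ({b} : Set X) ≠ ⊥)
    {c : X} (hc : c ∈ A) (hc1 : c ≠ 1) (hcb : c ∉ zpowers b) :
    S ⊓ normalizer (R : Set X) ⊓ centralizer ({c} : Set X) ≤ maxNorm A R S := by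
  set Y := S ⊓ normalizer (R : Set X) ⊓ centralizer ({c} : Set X) with hY
  have hYS : Y ≤ S := inf_le_left.trans inf_le_left
  have hYR : Y ≤ centralizer (R : Set X) :=
    M.centralizes_of_fixed P.left.le P.left.inv P.left.pgroup (hYS.trans P.right.le)
      (inv_inf (inv_inf P.right.inv (inv_normalizer P.left.inv)) (inv_singleton hc M.comm))
      (P.right.pgroup.to_le hYS) P.ne (inf_le_left.trans inf_le_right) hc hc1 hb
      (fun h => hcb (M.mem_zpowers_symm hc hb hb1 h)) inf_le_right
      fun x hx => mem_centralizer_iff.2 fun y hy =>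
        (P.commute_norm (mem_inf.1 hx).1 (P.line_le_normalizer M hU hb hb1 hZ hx)
          (mem_inf.1 (mem_inf.1 hy).1).1 (mem_inf.1 (mem_inf.1 hy).1).2).symm
  exact (le_inf hYS hYR).trans P.centralizer_le_max

/-- If both maximal subgroups are nontrivial, we get a contradiction. -/
theorem false_of_both (M : Minimal G A q) (P : Pair G A r s R S) (hW : maxNorm A R S ≠ ⊥)
    (hU : maxNorm A S R ≠ ⊥) : False := by
  set W := maxNorm A R S with hWdef
  set U := maxNorm A S R with hUdef
  have hUR : U ≤ R := maxNorm_le _ _ _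
  have hWS : W ≤ S := maxNorm_le _ _ _
  have hUC : U ≤ centralizer (W : Set X) :=
    le_centralizer_of_disjoint (hUR.trans (maxNorm_normalized _ _ _))
      (hWS.trans (maxNorm_normalized _ _ _))
      (inf_eq_bot_of_pgroup P.symm.max_pgroup P.max_pgroup P.ne)
  set U₁ := R ⊓ centralizer (W : Set X) with hU₁
  have hRU₁ : R ≤ normalizer (U₁ : Set X) :=
    (le_inf le_normalizer (inv_centralizer (maxNorm_normalized A R S))).trans
      inf_normalizer_le_normalizer_inf
  have hlt : U < U₁ := by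
    refine lt_of_le_of_ne (le_inf hUR hUC) fun e => ?_
    exact P.no_common _ inf_le_left
      (M.normalizer_ne (hUR.trans P.left.le) (maxNorm_inv _ _ _) hU
        (solvable_of_pgroup P.symm.max_pgroup))
      (inv_inf M.norm (inv_normalizer (maxNorm_inv _ _ _)))
      (le_inf P.left.le (by rw [← e] at hRU₁; exact hRU₁))
      (le_inf P.right.le (maxNorm_normalized _ _ _))
  have hlt' := lt_normalizer_inf_of_lt (P.left.pgroup.to_le inf_le_left) hlt
  obtain ⟨x, hx, hxU⟩ := SetLike.exists_of_lt hlt'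
  obtain ⟨u, hu, n, hn, rfl⟩ := P.symm.normalizer_max M hU
    (mem_inf.2 ⟨(mem_inf.1 (mem_inf.1 hx).1).1, (mem_inf.1 hx).2⟩)
  set Q := U₁ ⊓ normalizer (S : Set X) with hQ
  have hnQ : n ∈ Q := mem_inf.2
    ⟨by simpa using mul_mem (inv_mem (hlt.le hu)) (mem_inf.1 hx).1, (mem_inf.1 hn).2⟩
  have hQR : Q ≤ R := inf_le_left.trans inf_le_left
  have hSN : S ⊓ normalizer (W : Set X) ≤ centralizer (Q : Set X) := fun y hy => by
    obtain ⟨w, hw, m, hm, rfl⟩ := P.normalizer_max M hW hy
    refine mul_mem (mem_centralizer_iff.2 fun z hz => ?_) (mem_centralizer_iff.2 fun z hz =>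
      P.commute_norm (hQR hz) (mem_inf.1 hz).2 (mem_inf.1 hm).1 (mem_inf.1 hm).2)
    exact (mem_centralizer_iff.1 (mem_inf.1 (mem_inf.1 hz).1).2 w hw).symm
  have hQS : Q ≤ centralizer (S : Set X) := by
    refine le_centralizer_of_prod (P := W) (G := S) P.max_pgroup ?_ ?_ P.right.pgroup
      (hWS.trans le_normalizer) inf_le_right
      ((inf_le_inf_left _ (centralizer_le_normalizer _)).trans hSN)
    · obtain ⟨k, hk⟩ := (P.left.pgroup.to_le hQR).exists_card_eq
      rw [hk]
      exact Nat.Coprime.pow_left _ ((Nat.coprime_primes Fact.out Fact.out).2 P.ne)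
    · exact commutator_eq_bot_iff_le_centralizer.2
        (le_centralizer_iff.1 (inf_le_left.trans inf_le_right))
  have : n ∈ U := P.symm.centralizer_le_max (mem_inf.2 ⟨hQR hnQ, hQS hnQ⟩)
  exact hxU (mul_mem hu this)

/-- The largest subgroup of `S` normalised by `R` is trivial. -/
theorem max_eq_bot (M : Minimal G A q) (P : Pair G A r s R S) : maxNorm A R S = ⊥ := by
  by_contra hW
  by_cases hU : maxNorm A S R = ⊥
  swap
  · exact P.false_of_both M hW hU
  set W := maxNorm A R S with hWdef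
  have hWS : W ≤ S := maxNorm_le _ _ _
  have hWA : A ≤ normalizer (W : Set X) := maxNorm_inv _ _ _
  have hWG : W ≤ G := hWS.trans P.right.le
  obtain ⟨b, hb, hb1, hZ⟩ := P.exists_central_line M
  have hline := fun {c : X} (hc : c ∈ A) (hc1 : c ≠ 1) (hcb : c ∉ zpowers b) =>
    P.norm_line_le_max M hU hb hb1 hZ hc hc1 hcb
  set SN := S ⊓ normalizer (W : Set X) with hSN
  have hSNA : A ≤ normalizer (SN : Set X) := inv_inf P.right.inv (inv_normalizer hWA)
  have hWSN : W ≤ SN := le_inf hWS le_normalizer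
  -- lines of `S_N` other than `b`
  have hSNline : ∀ c ∈ A, c ≠ 1 → c ∉ zpowers b → SN ⊓ centralizer ({c} : Set X) ≤ W := by
    intro c hc hc1 hcb y hy
    obtain ⟨w, hw, n, hn, rfl⟩ := P.normalizer_max M hW (mem_inf.1 hy).1
    obtain ⟨w', hw', n', hn', e⟩ := centralizer_of_mul (A := zpowers c) (U := W)
      (V := S ⊓ normalizer (R : Set X)) (zpowers_le.2 (hWA hc))
      (zpowers_le.2 (inv_inf P.right.inv (inv_normalizer P.left.inv) hc))
      (coprime_of_le M.cop (zpowers_le.2 hc) hWG) (.inl (isSolvable_zpowers c)) hw hn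
      (by rw [zpowers_eq_closure, centralizer_closure]; exact (mem_inf.1 hy).2)
    rw [e]
    refine mul_mem (mem_inf.1 hw').1 (hline hc hc1 hcb (mem_inf.2 ⟨(mem_inf.1 hn').1, ?_⟩))
    exact mem_centralizer_singleton_iff.2
      (mem_centralizer_iff.1 (mem_inf.1 hn').2 c (mem_zpowers c)).symm
  have hSNb : SN ≤ W ⊔ (SN ⊓ centralizer ({b} : Set X)) := by
    refine M.le_of_lines (inf_le_left.trans P.right.le) hSNA fun c hc hc1 => ?_
    by_cases hcb : c ∈ zpowers b
    · exact le_trans (fun y hy => mem_inf.2 ⟨(mem_inf.1 hy).1,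
        mem_centralizer_of_zpowers (M.mem_zpowers_symm hb hc hc1 hcb) (mem_inf.1 hy).2⟩)
        le_sup_right
    · exact (hSNline c hc hc1 hcb).trans le_sup_left
  -- the normaliser of `S_N`
  have hlt : SN < S := lt_of_le_of_ne inf_le_left fun e =>
    P.no_common _ inf_le_left (M.normalizer_ne hWG hWA hW (solvable_of_pgroup P.max_pgroup))
      (inv_inf M.norm (inv_normalizer hWA)) (le_inf P.left.le (maxNorm_normalized _ _ _))
      (le_inf P.right.le (inf_eq_left.1 e))
  set N2 := S ⊓ normalizer (SN : Set X) with hN2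
  have hN2A : A ≤ normalizer (N2 : Set X) := inv_inf P.right.inv (inv_normalizer hSNA)
  have hN2line : ∀ d ∈ A, d ≠ 1 → d ∉ zpowers b → N2 ⊓ centralizer ({d} : Set X) ≤ W := by
    intro d hd hd1 hdb
    set K := N2 ⊓ centralizer ({d} : Set X) with hK
    set W' := conjClosure K W with hW'
    have hKA : A ≤ normalizer (K : Set X) := inv_inf hN2A (inv_singleton hd M.comm)
    have hW'SN : W' ≤ SN := conjClosure_le hWSN (inf_le_left.trans inf_le_right)
    have hW'A : A ≤ normalizer (W' : Set X) := le_normalizer_conjClosure hWA hKA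
    have hQK : R ⊓ centralizer ({d} : Set X) ≤ centralizer (K : Set X) := fun x hx =>
      mem_centralizer_iff.2 fun k hk =>
        M.ab d hd hd1 k (mem_inf.2 ⟨P.right.le (mem_inf.1 (mem_inf.1 hk).1).1, (mem_inf.1 hk).2⟩)
          x (mem_inf.2 ⟨P.left.le (mem_inf.1 hx).1, (mem_inf.1 hx).2⟩)
    have hQW' : R ⊓ centralizer ({d} : Set X) ≤ normalizer (W' : Set X) :=
      le_normalizer_conjClosure (inf_le_left.trans (maxNorm_normalized _ _ _))
        (hQK.trans (centralizer_le_normalizer _))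
    set Y := W' ⊓ normalizer (R : Set X) with hY
    have hYS : Y ≤ S := inf_le_left.trans (hW'SN.trans inf_le_left)
    have hYA : A ≤ normalizer (Y : Set X) := inv_inf hW'A (inv_normalizer P.left.inv)
    have hYQ : R ⊓ centralizer ({d} : Set X) ≤ centralizer (Y : Set X) := fun x hx =>
      mem_centralizer_iff.2 fun y hy => by
        have h1 : x * y * x⁻¹ * y⁻¹ ∈ R ⊓ S := mem_inf.2 ⟨by
            have := mul_mem (mem_inf.1 hx).1
              ((mem_normalizer_iff.1 (mem_inf.1 hy).2 x⁻¹).1 (inv_mem (mem_inf.1 hx).1))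
            simpa [mul_assoc] using this,
          hW'SN.trans inf_le_left (mul_mem (le_normalizer_iff.1 hQW' x hx y (mem_inf.1 hy).1)
            (inv_mem (mem_inf.1 hy).1))⟩
        rw [inf_eq_bot_of_pgroup P.left.pgroup P.right.pgroup P.ne, mem_bot, mul_inv_eq_one,
          mul_inv_eq_iff_eq_mul] at h1
        exact h1.symm
    have hYW : Y ≤ W := by
      refine M.le_of_lines (hYS.trans P.right.le) hYA fun c hc hc1 => ?_
      by_cases hcb : c ∈ zpowers b
      · set Yc := Y ⊓ centralizer ({c} : Set X) with hYc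
        have hdc : d ∉ zpowers c := fun h => hdb (zpowers_le.2 hcb h)
        refine le_trans (le_inf (inf_le_left.trans hYS) ?_) P.centralizer_le_max
        exact M.centralizes_of_fixed P.left.le P.left.inv P.left.pgroup
          ((inf_le_left.trans hYS).trans P.right.le) (inv_inf hYA (inv_singleton hc M.comm))
          (P.right.pgroup.to_le (inf_le_left.trans hYS)) P.ne (inf_le_left.trans inf_le_right)
          hc hc1 hd hdc inf_le_right (hYQ.trans (centralizer_le (SetLike.coe_subset_coe.2 inf_le_left)))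
      · exact le_trans (inf_le_inf_right _ (le_inf hYS inf_le_right)) (hline hc hc1 hcb)
    have hW'W : W' ≤ W := fun x hx => by
      obtain ⟨w, hw, n, hn, rfl⟩ := P.normalizer_max M hW (hW'SN hx)
      refine mul_mem hw (hYW (mem_inf.2 ⟨?_, (mem_inf.1 hn).2⟩))
      simpa using mul_mem (inv_mem (le_conjClosure K W hw)) hx
    have hKW : K ≤ normalizer (W : Set X) :=
      le_normalizer_iff.2 fun k hk x hx => hW'W (conj_mem_conjClosure hk hx)
    exact le_trans (le_inf (le_inf (inf_le_left.trans inf_le_left) hKW) inf_le_right)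
      (hSNline d hd hd1 hdb)
  -- `N2` normalises `W`
  have hkey : ∀ k ∈ N2 ⊓ centralizer ({b} : Set X), k ∈ normalizer (W : Set X) := by
    intro k hk
    refine mem_normalizer_of_conj_map_le ?_
    have hkG : k ∈ G := P.right.le (mem_inf.1 (mem_inf.1 hk).1).1
    suffices h : W ≤ W.comap (MulAut.conj k).toMonoidHom from fun x hx => h hx
    refine M.le_of_lines hWG hWA fun c hc hc1 x hx => ?_
    show k * x * k⁻¹ ∈ W
    by_cases hcb : c ∈ zpowers b
    · have := M.ab b hb hb1 k (mem_inf.2 ⟨hkG, (mem_inf.1 hk).2⟩) x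
        (mem_inf.2 ⟨hWG (mem_inf.1 hx).1,
          mem_centralizer_of_zpowers (M.mem_zpowers_symm hb hc hc1 hcb) (mem_inf.1 hx).2⟩)
      rw [this, mul_inv_cancel_right]
      exact (mem_inf.1 hx).1
    · set V := W ⊓ centralizer ({c} : Set X) with hV
      have hVA : A ≤ normalizer (V : Set X) := inv_inf hWA (inv_singleton hc M.comm)
      let φ : V → V := fun v => ⟨(v : X)⁻¹ * (b * v * b⁻¹),
        mul_mem (inv_mem v.2) (le_normalizer_iff.1 hVA b hb _ v.2)⟩
      have hinj : Function.Injective φ := by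
        intro v w hvw
        have h : (v : X)⁻¹ * (b * v * b⁻¹) = (w : X)⁻¹ * (b * w * b⁻¹) := congrArg Subtype.val hvw
        have hfix : b * ((w : X) * (v : X)⁻¹) = (w : X) * (v : X)⁻¹ * b := by
          calc b * ((w : X) * (v : X)⁻¹) = b * w * b⁻¹ * (b * v * b⁻¹)⁻¹ * b := by group
            _ = w * ((w : X)⁻¹ * (b * w * b⁻¹)) * (b * v * b⁻¹)⁻¹ * b := by group
            _ = w * ((v : X)⁻¹ * (b * v * b⁻¹)) * (b * v * b⁻¹)⁻¹ * b := by rw [← h]
            _ = w * (v : X)⁻¹ * b := by group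
        have hwv : (w : X) * (v : X)⁻¹ ∈ V := mul_mem w.2 (inv_mem v.2)
        have h1 := M.inter_lines hc hc1 hb (fun h => hcb (M.mem_zpowers_symm hc hb hb1 h))
          (hWG (mem_inf.1 hwv).1) (mem_inf.1 hwv).2 (mem_centralizer_singleton_iff.2 hfix.symm)
        exact Subtype.ext (mul_inv_eq_one.1 h1).symm
      obtain ⟨v, hv⟩ := Finite.surjective_of_injective hinj ⟨x, hx⟩
      have hxv : (v : X)⁻¹ * (b * v * b⁻¹) = x := congrArg Subtype.val hv
      set y := k * (v : X) * k⁻¹ with hy
      have hySN : y ∈ SN :=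
        le_normalizer_iff.1 (inf_le_right : N2 ≤ normalizer (SN : Set X)) k (mem_inf.1 hk).1 v
          (hWSN (mem_inf.1 v.2).1)
      obtain ⟨w, hw, z, hz, hwz⟩ := (mem_sup_of_le_normalizer
        ((inf_le_left : SN ⊓ centralizer ({b} : Set X) ≤ SN).trans inf_le_right)).1 (hSNb hySN)
      have hkb : k * b = b * k := mem_centralizer_singleton_iff.1 (mem_inf.1 hk).2
      have hzb : z * b = b * z := mem_centralizer_singleton_iff.1 (mem_inf.1 hz).2
      have e : k * x * k⁻¹ = z⁻¹ * (w⁻¹ * (b * w * b⁻¹)) * z := by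
        calc k * x * k⁻¹ = y⁻¹ * ((k * b) * v * (b⁻¹ * k⁻¹)) := by rw [← hxv, hy]; group
          _ = y⁻¹ * ((b * k) * v * (b * k)⁻¹) := by rw [← hkb]; group
          _ = y⁻¹ * (b * y * b⁻¹) := by rw [hy]; group
          _ = z⁻¹ * w⁻¹ * b * w * (z * b⁻¹) := by rw [← hwz]; group
          _ = z⁻¹ * w⁻¹ * b * w * (b⁻¹ * z) := by
              rw [show z * b⁻¹ = b⁻¹ * z from
                ((show Commute z b from hzb).inv_right).eq]
          _ = _ := by group
      rw [e]
      have hzW : z ∈ normalizer (W : Set X) := (mem_inf.1 (mem_inf.1 hz).1).2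
      exact (mem_normalizer_iff''.1 hzW _).1
        (mul_mem (inv_mem hw) (le_normalizer_iff.1 hWA b hb w hw))
  have hN2SN : N2 ≤ SN := le_inf inf_le_left (by
    refine M.le_of_lines (inf_le_left.trans P.right.le) hN2A fun c hc hc1 => ?_
    by_cases hcb : c ∈ zpowers b
    · exact fun y hy => hkey y (mem_inf.2 ⟨(mem_inf.1 hy).1,
        mem_centralizer_of_zpowers (M.mem_zpowers_symm hb hc hc1 hcb) (mem_inf.1 hy).2⟩)
    · exact (hN2line c hc hc1 hcb).trans le_normalizer)
  exact (lt_normalizer_inf_of_lt P.right.pgroup hlt).not_ge hN2SN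

end Pair

end CfsgLib.Coprime.RankTwoAbelian
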