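import Cfsg.Agent.Lib.Coprime.Generation
import Cfsg.Agent.Lib.Coprime.Sylow
import Cfsg.Agent.Lib.Coprime.Hall
import Cfsg.Agent.Lib.Solvable.HallSystem
import Cfsg.Agent.Lib.Solvable.FPFOperators.WardHeight
import Mathlib

/-!
# A group of order `q ^ 2` acting coprimely with abelian centralisers: the basic objects

`G` and `A` are subgroups of an ambient group.  `Minimal G A q` describes a minimal counterexample
to the solubility of `G`.
-/

set_option autoImplicit false
set_option linter.unusedSectionVars false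
set_option linter.style.haveILetI false

namespace CfsgLib.Coprime.RankTwoAbelian

open Subgroup
open scoped Pointwise commutatorElement

variable {X : Type*} [Group X]

/-- A group of order `q ^ 2` and exponent `q` acting coprimely on `G` with abelian centralisers. -/
structure Data (G A : Subgroup X) (q : ℕ) : Prop where
  hq : q.Prime
  card : Nat.card A = q ^ 2
  comm : IsMulCommutative A
  exp : ∀ a ∈ A, a ^ q = 1
  norm : A ≤ normalizer (G : Set X)
  cop : (Nat.card A).Coprime (Nat.card G)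
  ab : ∀ a ∈ A, a ≠ 1 → ∀ x ∈ G ⊓ centralizer ({a} : Set X),
    ∀ y ∈ G ⊓ centralizer ({a} : Set X), x * y = y * x

/-- A minimal counterexample. -/
structure Minimal (G A : Subgroup X) (q : ℕ) : Prop extends Data G A q where
  fix : G ⊓ centralizer (A : Set X) = ⊥
  proper : ∀ H : Subgroup X, H ≤ G → H ≠ G → A ≤ normalizer (H : Set X) → Group.IsSolvable H
  simple : ∀ N : Subgroup X, N ≤ G → G ≤ normalizer (N : Set X) → A ≤ normalizer (N : Set X) →
    N = ⊥ ∨ N = G
  nsolv : ¬ Group.IsSolvable G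

section Tools

variable {A : Subgroup X}

theorem inv_inf {H K : Subgroup X} (hH : A ≤ normalizer (H : Set X))
    (hK : A ≤ normalizer (K : Set X)) : A ≤ normalizer ((H ⊓ K : Subgroup X) : Set X) :=
  (le_inf hH hK).trans inf_normalizer_le_normalizer_inf

theorem inv_normalizer {H : Subgroup X} (hH : A ≤ normalizer (H : Set X)) :
    A ≤ normalizer ((normalizer (H : Set X) : Subgroup X) : Set X) :=
  hH.trans le_normalizer

theorem inv_centralizer {H : Subgroup X} (hH : A ≤ normalizer (H : Set X)) :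
    A ≤ normalizer ((centralizer (H : Set X) : Subgroup X) : Set X) := by
  refine le_normalizer_iff.2 fun a ha x hx => mem_centralizer_iff.2 fun h hh => ?_
  have h1 : a⁻¹ * h * a ∈ H := by
    simpa using le_normalizer_iff.1 hH a⁻¹ (inv_mem ha) h hh
  have h2 : a⁻¹ * h * a * x = x * (a⁻¹ * h * a) := mem_centralizer_iff.1 hx _ h1
  calc h * (a * x * a⁻¹) = a * (a⁻¹ * h * a * x) * a⁻¹ := by group
    _ = a * (x * (a⁻¹ * h * a)) * a⁻¹ := by rw [h2]
    _ = a * x * a⁻¹ * h := by group

theorem inv_sup {H K : Subgroup X} (hH : A ≤ normalizer (H : Set X))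
    (hK : A ≤ normalizer (K : Set X)) : A ≤ normalizer ((H ⊔ K : Subgroup X) : Set X) :=
  (le_inf hH hK).trans (normalizer_inf_normalizer_le_normalizer_sup H K)

theorem inv_iSup {ι : Sort*} {H : ι → Subgroup X} (h : ∀ i, A ≤ normalizer (H i : Set X)) :
    A ≤ normalizer ((⨆ i, H i : Subgroup X) : Set X) := by
  have : ∀ a ∈ A, (⨆ i, H i).map (MulAut.conj a).toMonoidHom ≤ ⨆ i, H i := fun a ha => by
    rw [Subgroup.map_iSup]
    exact iSup_mono fun i => by
      rintro _ ⟨x, hx, rfl⟩
      exact le_normalizer_iff.1 (h i) a ha x hx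
  exact le_normalizer_iff.2 fun a ha x hx => this a ha ⟨x, hx, rfl⟩

theorem inv_singleton {a : X} (ha : a ∈ A) (hc : IsMulCommutative A) :
    A ≤ normalizer ((centralizer ({a} : Set X) : Subgroup X) : Set X) := by
  haveI := hc
  refine le_trans (fun b hb => ?_) le_normalizer
  exact mem_centralizer_singleton_iff.2
    (congrArg Subtype.val (mul_comm' (⟨b, hb⟩ : A) ⟨a, ha⟩))

theorem mem_centralizer_of_zpowers {a c : X} (h : c ∈ zpowers a) {x : X}
    (hx : x ∈ centralizer ({a} : Set X)) : x ∈ centralizer ({c} : Set X) := by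
  obtain ⟨i, rfl⟩ := mem_zpowers_iff.1 h
  exact mem_centralizer_singleton_iff.2
    ((show Commute x a from mem_centralizer_singleton_iff.1 hx).zpow_right i).eq

/-- Subgroups normalising each other with trivial intersection centralise each other. -/
theorem le_centralizer_of_disjoint {H K : Subgroup X} (hHK : H ≤ normalizer (K : Set X))
    (hKH : K ≤ normalizer (H : Set X)) (h : H ⊓ K = ⊥) : H ≤ centralizer (K : Set X) := by
  rw [← commutator_eq_bot_iff_le_centralizer, eq_bot_iff, ← h]
  exact le_inf (le_normalizer_iff_commutator_le_left.1 hKH)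
    ((commutator_comm H K).le.trans (le_normalizer_iff_commutator_le_left.1 hHK))

/-- A common element of subgroups of coprime prime power orders is trivial. -/
theorem inf_eq_bot_of_pgroup {H K : Subgroup X} {r s : ℕ} [Fact r.Prime] [Fact s.Prime]
    (hH : IsPGroup r H) (hK : IsPGroup s K) (hrs : r ≠ s) : H ⊓ K = ⊥ :=
  disjoint_iff.1 (hH.disjoint_of_ne r s hrs H K hK)

theorem coprime_of_pgroup [Finite X] {H K : Subgroup X} {r s : ℕ} [Fact r.Prime] [Fact s.Prime]
    (hH : IsPGroup r H) (hK : IsPGroup s K) (hrs : r ≠ s) :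
    (Nat.card H).Coprime (Nat.card K) :=
  IsPGroup.coprime_card_of_ne s r hrs.symm K H hK hH |>.symm

theorem solvable_of_pgroup [Finite X] {H : Subgroup X} {r : ℕ} [Fact r.Prime]
    (hH : IsPGroup r H) : Group.IsSolvable H := by
  haveI := hH.isNilpotent
  infer_instance

end Tools

section Facts

variable [Finite X] {G A : Subgroup X} {q : ℕ}

namespace Data

theorem orderOf_eq (D : Data G A q) {a : X} (ha : a ∈ A) (ha1 : a ≠ 1) : orderOf a = q :=
  ((Nat.dvd_prime D.hq).1 (orderOf_dvd_of_pow_eq_one (D.exp a ha))).resolve_left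
    fun h => ha1 (orderOf_eq_one_iff.1 h)

theorem solvA (D : Data G A q) : Group.IsSolvable A := by
  haveI := D.comm
  exact Group.isSolvable_of_comm fun a b => mul_comm' a b

theorem card_zpowers_eq (D : Data G A q) {a : X} (ha : a ∈ A) (ha1 : a ≠ 1) :
    Nat.card (zpowers a) = q := by rw [Nat.card_zpowers, D.orderOf_eq ha ha1]

theorem zpowers_ne_top (D : Data G A q) {a : X} (ha : a ∈ A) : zpowers a ≠ A := by
  intro h
  have h1 := Nat.le_of_dvd D.hq.pos (orderOf_dvd_of_pow_eq_one (D.exp a ha))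
  rw [← Nat.card_zpowers, h, D.card] at h1
  nlinarith [D.hq.two_le]

theorem not_cyclic (D : Data G A q) : ¬ IsCyclic A := by
  intro h
  obtain ⟨g, hg⟩ := h.exists_generator
  refine D.zpowers_ne_top g.2 (le_antisymm (zpowers_le.2 g.2) fun a ha => ?_)
  obtain ⟨i, hi⟩ := mem_zpowers_iff.1 (hg ⟨a, ha⟩)
  exact mem_zpowers_iff.2 ⟨i, by simpa using congrArg Subtype.val hi⟩

/-- A nontrivial element of a line generates it. -/
theorem mem_zpowers_symm (D : Data G A q) {a c : X} (ha : a ∈ A) (hc : c ∈ A) (hc1 : c ≠ 1)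
    (h : c ∈ zpowers a) : a ∈ zpowers c := by
  have ha1 : a ≠ 1 := by
    rintro rfl
    exact hc1 (by simpa using h)
  have : zpowers c = zpowers a := eq_of_le_of_card_ge (zpowers_le.2 h)
    (by rw [D.card_zpowers_eq ha ha1, D.card_zpowers_eq hc hc1])
  exact this ▸ mem_zpowers a

/-- Two lines span. -/
theorem sup_zpowers (D : Data G A q) {a d : X} (ha : a ∈ A) (ha1 : a ≠ 1) (hd : d ∈ A)
    (hd' : d ∉ zpowers a) : zpowers a ⊔ zpowers d = A := by
  have hle : zpowers a ⊔ zpowers d ≤ A := sup_le (zpowers_le.2 ha) (zpowers_le.2 hd)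
  refine eq_of_le_of_card_ge hle ?_
  obtain ⟨k, -, hk⟩ := (Nat.dvd_prime_pow D.hq).1 (D.card ▸ card_dvd_of_le hle)
  have hlt : q < Nat.card (zpowers a ⊔ zpowers d : Subgroup X) := by
    rw [← D.card_zpowers_eq ha ha1]
    refine lt_of_le_of_ne (card_le_of_le le_sup_left) fun h => hd' ?_
    rw [eq_of_le_of_card_ge le_sup_left h.ge]
    exact mem_sup_right (mem_zpowers d)
  rw [hk] at hlt ⊢
  rw [D.card]
  refine Nat.pow_le_pow_right D.hq.pos ?_
  by_contra h
  have := Nat.pow_le_pow_right D.hq.pos (show k ≤ 1 by omega)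
  rw [pow_one] at this
  omega

/-- There is an element outside any two lines. -/
theorem exists_third (D : Data G A q) {a b : X} (ha : a ∈ A) (hb : b ∈ A) :
    ∃ d ∈ A, d ∉ zpowers a ∧ d ∉ zpowers b := by
  obtain ⟨x, hx, hxa⟩ := Set.not_subset.1 fun h : (A : Set X) ⊆ zpowers a =>
    D.zpowers_ne_top ha (le_antisymm (zpowers_le.2 ha) h)
  obtain ⟨y, hy, hyb⟩ := Set.not_subset.1 fun h : (A : Set X) ⊆ zpowers b =>
    D.zpowers_ne_top hb (le_antisymm (zpowers_le.2 hb) h)
  by_cases h1 : x ∈ zpowers b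
  · by_cases h2 : y ∈ zpowers a
    · exact ⟨x * y, mul_mem hx hy, fun h => hxa (by simpa using mul_mem h (inv_mem h2)),
        fun h => hyb (by simpa using mul_mem (inv_mem h1) h)⟩
    · exact ⟨y, hy, h2, hyb⟩
  · exact ⟨x, hx, hxa, h1⟩

end Data

namespace Minimal

theorem inter_lines (M : Minimal G A q) {a d x : X} (ha : a ∈ A) (ha1 : a ≠ 1) (hd : d ∈ A)
    (hd' : d ∉ zpowers a) (hxG : x ∈ G) (hxa : x ∈ centralizer ({a} : Set X))
    (hxd : x ∈ centralizer ({d} : Set X)) : x = 1 := by
  have : x ∈ G ⊓ centralizer (A : Set X) := by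
    refine mem_inf.2 ⟨hxG, mem_centralizer_iff.2 fun c hc => ?_⟩
    have hle : zpowers a ⊔ zpowers d ≤ centralizer ({x} : Set X) :=
      sup_le (zpowers_le.2 (mem_centralizer_singleton_iff.2
          (mem_centralizer_singleton_iff.1 hxa).symm))
        (zpowers_le.2 (mem_centralizer_singleton_iff.2
          (mem_centralizer_singleton_iff.1 hxd).symm))
    rw [M.sup_zpowers ha ha1 hd hd'] at hle
    exact mem_centralizer_singleton_iff.1 (hle hc)
  rwa [M.fix, mem_bot] at this

theorem copr (M : Minimal G A q) {H : Subgroup X} (hH : H ≤ G) :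
    (Nat.card A).Coprime (Nat.card H) := coprime_of_le M.cop le_rfl hH

/-- An invariant subgroup is generated by its centralisers of elements. -/
theorem le_of_lines (M : Minimal G A q) {H T : Subgroup X} (hH : H ≤ G)
    (hHA : A ≤ normalizer (H : Set X))
    (h : ∀ a ∈ A, a ≠ 1 → H ⊓ centralizer ({a} : Set X) ≤ T) : H ≤ T := by
  haveI := M.comm
  rw [← iSup_centralizer_singleton M.not_cyclic hHA (M.copr hH)]
  exact iSup₂_le fun a ha => h a ha.1 ha.2

theorem exists_line (M : Minimal G A q) {H : Subgroup X} (hH : H ≤ G)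
    (hHA : A ≤ normalizer (H : Set X)) (hne : H ≠ ⊥) :
    ∃ a ∈ A, a ≠ 1 ∧ H ⊓ centralizer ({a} : Set X) ≠ ⊥ := by
  by_contra h
  push Not at h
  exact hne (le_bot_iff.1 (M.le_of_lines hH hHA fun a ha ha1 => (h a ha ha1).le))

/-- The normaliser of a nontrivial solvable invariant subgroup is a proper subgroup. -/
theorem normalizer_ne (M : Minimal G A q) {U : Subgroup X} (hU : U ≤ G)
    (hUA : A ≤ normalizer (U : Set X)) (hne : U ≠ ⊥) (hs : Group.IsSolvable U) :
    G ⊓ normalizer (U : Set X) ≠ G := fun h => by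
  rcases M.simple U hU (inf_eq_left.1 h) hUA with e | e
  · exact hne e
  · exact M.nsolv (e ▸ hs)

theorem centralizer_ne (M : Minimal G A q) {U : Subgroup X} (hU : U ≤ G)
    (hUA : A ≤ normalizer (U : Set X)) (hne : U ≠ ⊥) (hs : Group.IsSolvable U) :
    G ⊓ centralizer (U : Set X) ≠ G := fun h =>
  M.normalizer_ne hU hUA hne hs
    (inf_eq_left.2 ((inf_eq_left.1 h).trans (centralizer_le_normalizer _)))

end Minimal

/-- `R` is an invariant Sylow `r`-subgroup of `G`. -/
structure IsInvSylow (G A : Subgroup X) (r : ℕ) (R : Subgroup X) : Prop where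
  le : R ≤ G
  inv : A ≤ normalizer (R : Set X)
  pgroup : IsPGroup r R
  card : Nat.card R = r ^ (Nat.card G).factorization r

namespace Minimal

variable {r s : ℕ} [Fact r.Prime] [Fact s.Prime] {R S H : Subgroup X}

theorem exists_invSylow (M : Minimal G A q) (r : ℕ) [Fact r.Prime] :
    ∃ R, IsInvSylow G A r R := by
  obtain ⟨P, hP⟩ := exists_invariant_sylow M.norm M.cop (.inl M.solvA) r
  exact ⟨_, map_subtype_le _, hP, P.isPGroup'.map _, by
    rw [card_map_subtype, P.card_eq_multiplicity]⟩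

theorem le_invSylow (M : Minimal G A q) (hR : IsInvSylow G A r R) {U : Subgroup X} (hU : U ≤ G)
    (hUA : A ≤ normalizer (U : Set X)) (hUp : IsPGroup r U) : U ≤ R := by
  obtain ⟨P, hUP, hP⟩ := exists_le_invariant_sylow M.norm M.cop (.inl M.solvA) hU hUp hUA
  obtain ⟨Q, hQ⟩ := exists_sylow_map_eq hR.le hR.card
  obtain ⟨c, hc, hcP⟩ := exists_centralizer_conj_sylow M.norm M.cop (.inl M.solvA) P Q hP
    (hQ.symm ▸ hR.inv)
  have hc1 : c = 1 := by
    have : (c : X) ∈ G ⊓ centralizer (A : Set X) := mem_inf.2 ⟨c.2, hc⟩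
    rw [M.fix, mem_bot] at this
    exact Subtype.ext this
  rw [hc1, one_smul] at hcP
  subst hcP
  exact hUP.trans hQ.le

theorem card_invSylow_inf (M : Minimal G A q) (hR : IsInvSylow G A r R) (hH : H ≤ G)
    (hHA : A ≤ normalizer (H : Set X)) :
    Nat.card (R ⊓ H : Subgroup X) = r ^ (Nat.card H).factorization r := by
  obtain ⟨P, hP⟩ := exists_invariant_sylow hHA (M.copr hH) (.inl M.solvA) r
  have h1 : (P : Subgroup H).map H.subtype ≤ R ⊓ H :=
    le_inf (M.le_invSylow hR ((map_subtype_le _).trans hH) hP (P.isPGroup'.map _))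
      (map_subtype_le _)
  obtain ⟨n, hn⟩ := (hR.pgroup.to_le (inf_le_left : R ⊓ H ≤ R)).exists_card_eq
  refine le_antisymm ?_ ?_
  · rw [hn]
    refine Nat.pow_le_pow_right (Fact.out : r.Prime).pos ?_
    exact ((Fact.out : r.Prime).pow_dvd_iff_le_factorization Nat.card_pos.ne').1
      (hn ▸ card_dvd_of_le inf_le_right)
  · rw [← P.card_eq_multiplicity, ← card_map_subtype]
    exact card_le_of_le h1

end Minimal

end Facts

end CfsgLib.Coprime.RankTwoAbelian
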